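import Cfsg.Agent.Lib.Helper27.Fi22.Glue
import Cfsg.Agent.Lib.Helper27.Fi22.A1.Ent
import Cfsg.Agent.Lib.Helper27.Fi22.A2.Ent
import Cfsg.Agent.Lib.Helper27.Fi22.T3.Ent
import Cfsg.Agent.Lib.Helper27.Fi22.T4.Ent
import Cfsg.Agent.Lib.Helper28.S1685.Certs
import Cfsg.Agent.S1685

/-!
# The order of the presented group Fi22 is at most 64561751654400

A tower of presented groups: `Fi22 ≥ ⟨b,…,i⟩` (index 14080, statement S1685), then presented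
groups on fewer and fewer generators with verified coset tables of sizes 364, 243, 72 and 720.
-/

set_option autoImplicit false
set_option maxRecDepth 100000
set_option linter.all false

namespace Cfsg.Agent.Helper27.Fi22Tower

open Cfsg.Agent.Helper28 Cfsg.Agent.Helper27.Fi22TC Cfsg.Agent.Helper27.Fi22Glue
open Cfsg.Spor.Fi22 (Gen)

/-- live generators of level A1 -/
def liveA1 : Gen → Bool
  | .a => false
  | .b => true
  | .c => true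
  | .d => true
  | .e => true
  | .f => true
  | .g => true
  | .h => true
  | .i => true

/-- live generators of level A2 -/
def liveA2 : Gen → Bool
  | .a => false
  | .b => true
  | .c => true
  | .d => true
  | .e => true
  | .f => true
  | .g => false
  | .h => true
  | .i => true

/-- live generators of level T3 -/
def liveT3 : Gen → Bool
  | .a => false
  | .b => true
  | .c => true
  | .d => true
  | .e => true
  | .f => true
  | .g => false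
  | .h => true
  | .i => false

/-- live generators of level T4 -/
def liveT4 : Gen → Bool
  | .a => false
  | .b => true
  | .c => true
  | .d => true
  | .e => true
  | .f => true
  | .g => false
  | .h => false
  | .i => false

theorem hom_T4_T3 : ∃ f : PresentedGroup T4.D.rels →* PresentedGroup T3.D.rels,
    ∀ x, liveT4 x = true → f (PresentedGroup.of x) = PresentedGroup.of x :=
  exists_hom_of_words T3.D.rels T4.D.relL liveT4 (show ∀ w ∈ T4.relL, _ from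
    List.forall_mem_cons.2 ⟨Or.inl ⟨Gen.a, rfl, rfl⟩,
    List.forall_mem_cons.2 ⟨Or.inl ⟨Gen.g, rfl, rfl⟩,
    List.forall_mem_cons.2 ⟨Or.inl ⟨Gen.h, rfl, rfl⟩,
    List.forall_mem_cons.2 ⟨Or.inl ⟨Gen.i, rfl, rfl⟩,
    List.forall_mem_cons.2 ⟨Or.inr ⟨by decide, T3.relone_3⟩,
    List.forall_mem_cons.2 ⟨Or.inr ⟨by decide, T3.relone_4⟩,
    List.forall_mem_cons.2 ⟨Or.inr ⟨by decide, T3.relone_5⟩,
    List.forall_mem_cons.2 ⟨Or.inr ⟨by decide, T3.relone_6⟩,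
    List.forall_mem_cons.2 ⟨Or.inr ⟨by decide, T3.relone_7⟩,
    List.forall_mem_cons.2 ⟨Or.inr ⟨by decide, T3.relone_9⟩,
    List.forall_mem_cons.2 ⟨Or.inr ⟨by decide, T3.relone_10⟩,
    List.forall_mem_cons.2 ⟨Or.inr ⟨by decide, T3.relone_11⟩,
    List.forall_mem_cons.2 ⟨Or.inr ⟨by decide, T3.relone_12⟩,
    List.forall_mem_cons.2 ⟨Or.inr ⟨by decide, T3.relone_14⟩,
    List.forall_mem_cons.2 ⟨Or.inr ⟨by decide, T3.relone_15⟩,
    List.forall_mem_cons.2 ⟨Or.inr ⟨by decide, T3.relone_16⟩,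
    List.forall_mem_cons.2 ⟨Or.inr ⟨by decide, T3.relone_18⟩,
    List.forall_mem_cons.2 ⟨Or.inr ⟨by decide, T3.relone_19⟩,
    List.forall_mem_cons.2 ⟨Or.inr ⟨by decide, T3.relone_21⟩,
    (fun _ hw => (List.not_mem_nil hw).elim)⟩⟩⟩⟩⟩⟩⟩⟩⟩⟩⟩⟩⟩⟩⟩⟩⟩⟩⟩)

theorem hom_T3_A2 : ∃ f : PresentedGroup T3.D.rels →* PresentedGroup A2.D.rels,
    ∀ x, liveT3 x = true → f (PresentedGroup.of x) = PresentedGroup.of x :=
  exists_hom_of_words A2.D.rels T3.D.relL liveT3 (show ∀ w ∈ T3.relL, _ from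
    List.forall_mem_cons.2 ⟨Or.inl ⟨Gen.a, rfl, rfl⟩,
    List.forall_mem_cons.2 ⟨Or.inl ⟨Gen.g, rfl, rfl⟩,
    List.forall_mem_cons.2 ⟨Or.inl ⟨Gen.i, rfl, rfl⟩,
    List.forall_mem_cons.2 ⟨Or.inr ⟨by decide, A2.relone_2⟩,
    List.forall_mem_cons.2 ⟨Or.inr ⟨by decide, A2.relone_3⟩,
    List.forall_mem_cons.2 ⟨Or.inr ⟨by decide, A2.relone_4⟩,
    List.forall_mem_cons.2 ⟨Or.inr ⟨by decide, A2.relone_5⟩,
    List.forall_mem_cons.2 ⟨Or.inr ⟨by decide, A2.relone_6⟩,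
    List.forall_mem_cons.2 ⟨Or.inr ⟨by decide, A2.relone_7⟩,
    List.forall_mem_cons.2 ⟨Or.inr ⟨by decide, A2.relone_9⟩,
    List.forall_mem_cons.2 ⟨Or.inr ⟨by decide, A2.relone_10⟩,
    List.forall_mem_cons.2 ⟨Or.inr ⟨by decide, A2.relone_11⟩,
    List.forall_mem_cons.2 ⟨Or.inr ⟨by decide, A2.relone_12⟩,
    List.forall_mem_cons.2 ⟨Or.inr ⟨by decide, A2.relone_13⟩,
    List.forall_mem_cons.2 ⟨Or.inr ⟨by decide, A2.relone_15⟩,
    List.forall_mem_cons.2 ⟨Or.inr ⟨by decide, A2.relone_16⟩,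
    List.forall_mem_cons.2 ⟨Or.inr ⟨by decide, A2.relone_17⟩,
    List.forall_mem_cons.2 ⟨Or.inr ⟨by decide, A2.relone_18⟩,
    List.forall_mem_cons.2 ⟨Or.inr ⟨by decide, A2.relone_20⟩,
    List.forall_mem_cons.2 ⟨Or.inr ⟨by decide, A2.relone_21⟩,
    List.forall_mem_cons.2 ⟨Or.inr ⟨by decide, A2.relone_22⟩,
    List.forall_mem_cons.2 ⟨Or.inr ⟨by decide, A2.relone_24⟩,
    List.forall_mem_cons.2 ⟨Or.inr ⟨by decide, A2.relone_25⟩,
    List.forall_mem_cons.2 ⟨Or.inr ⟨by decide, A2.relone_27⟩,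
    (fun _ hw => (List.not_mem_nil hw).elim)⟩⟩⟩⟩⟩⟩⟩⟩⟩⟩⟩⟩⟩⟩⟩⟩⟩⟩⟩⟩⟩⟩⟩⟩)

theorem hom_A2_A1 : ∃ f : PresentedGroup A2.D.rels →* PresentedGroup A1.D.rels,
    ∀ x, liveA2 x = true → f (PresentedGroup.of x) = PresentedGroup.of x :=
  exists_hom_of_words A1.D.rels A2.D.relL liveA2 (show ∀ w ∈ A2.relL, _ from
    List.forall_mem_cons.2 ⟨Or.inl ⟨Gen.a, rfl, rfl⟩,
    List.forall_mem_cons.2 ⟨Or.inl ⟨Gen.g, rfl, rfl⟩,
    List.forall_mem_cons.2 ⟨Or.inr ⟨by decide, A1.relone_1⟩,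
    List.forall_mem_cons.2 ⟨Or.inr ⟨by decide, A1.relone_2⟩,
    List.forall_mem_cons.2 ⟨Or.inr ⟨by decide, A1.relone_3⟩,
    List.forall_mem_cons.2 ⟨Or.inr ⟨by decide, A1.relone_4⟩,
    List.forall_mem_cons.2 ⟨Or.inr ⟨by decide, A1.relone_5⟩,
    List.forall_mem_cons.2 ⟨Or.inr ⟨by decide, A1.relone_7⟩,
    List.forall_mem_cons.2 ⟨Or.inr ⟨by decide, A1.relone_8⟩,
    List.forall_mem_cons.2 ⟨Or.inr ⟨by decide, A1.relone_9⟩,
    List.forall_mem_cons.2 ⟨Or.inr ⟨by decide, A1.relone_10⟩,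
    List.forall_mem_cons.2 ⟨Or.inr ⟨by decide, A1.relone_11⟩,
    List.forall_mem_cons.2 ⟨Or.inr ⟨by decide, A1.relone_12⟩,
    List.forall_mem_cons.2 ⟨Or.inr ⟨by decide, A1.relone_14⟩,
    List.forall_mem_cons.2 ⟨Or.inr ⟨by decide, A1.relone_15⟩,
    List.forall_mem_cons.2 ⟨Or.inr ⟨by decide, A1.relone_16⟩,
    List.forall_mem_cons.2 ⟨Or.inr ⟨by decide, A1.relone_17⟩,
    List.forall_mem_cons.2 ⟨Or.inr ⟨by decide, A1.relone_18⟩,
    List.forall_mem_cons.2 ⟨Or.inr ⟨by decide, A1.relone_20⟩,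
    List.forall_mem_cons.2 ⟨Or.inr ⟨by decide, A1.relone_21⟩,
    List.forall_mem_cons.2 ⟨Or.inr ⟨by decide, A1.relone_22⟩,
    List.forall_mem_cons.2 ⟨Or.inr ⟨by decide, A1.relone_23⟩,
    List.forall_mem_cons.2 ⟨Or.inr ⟨by decide, A1.relone_25⟩,
    List.forall_mem_cons.2 ⟨Or.inr ⟨by decide, A1.relone_26⟩,
    List.forall_mem_cons.2 ⟨Or.inr ⟨by decide, A1.relone_27⟩,
    List.forall_mem_cons.2 ⟨Or.inr ⟨by decide, A1.relone_29⟩,
    List.forall_mem_cons.2 ⟨Or.inr ⟨by decide, A1.relone_30⟩,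
    List.forall_mem_cons.2 ⟨Or.inr ⟨by decide, A1.relone_32⟩,
    List.forall_mem_cons.2 ⟨Or.inr ⟨by decide, A1.relone_33⟩,
    List.forall_mem_cons.2 ⟨Or.inr ⟨by decide, A1.relone_36⟩,
    List.forall_mem_cons.2 ⟨Or.inr ⟨by decide, A1.relone_37⟩,
    (fun _ hw => (List.not_mem_nil hw).elim)⟩⟩⟩⟩⟩⟩⟩⟩⟩⟩⟩⟩⟩⟩⟩⟩⟩⟩⟩⟩⟩⟩⟩⟩⟩⟩⟩⟩⟩⟩⟩)

theorem hom_A1_Fi22 : ∃ f : PresentedGroup A1.D.rels →* PresentedGroup Cfsg.Agent.Helper28.S1685.rels,
    ∀ x, liveA1 x = true → f (PresentedGroup.of x) = PresentedGroup.of x :=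
  exists_hom_of_words Cfsg.Agent.Helper28.S1685.rels A1.D.relL liveA1 (show ∀ w ∈ A1.relL, _ from
    List.forall_mem_cons.2 ⟨Or.inl ⟨Gen.a, rfl, rfl⟩,
    List.forall_mem_cons.2 ⟨Or.inr ⟨by decide, Cfsg.Agent.Helper28.S1685.relone_9⟩,
    List.forall_mem_cons.2 ⟨Or.inr ⟨by decide, Cfsg.Agent.Helper28.S1685.relone_17⟩,
    List.forall_mem_cons.2 ⟨Or.inr ⟨by decide, Cfsg.Agent.Helper28.S1685.relone_24⟩,
    List.forall_mem_cons.2 ⟨Or.inr ⟨by decide, Cfsg.Agent.Helper28.S1685.relone_30⟩,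
    List.forall_mem_cons.2 ⟨Or.inr ⟨by decide, Cfsg.Agent.Helper28.S1685.relone_38⟩,
    List.forall_mem_cons.2 ⟨Or.inr ⟨by decide, Cfsg.Agent.Helper28.S1685.relone_42⟩,
    List.forall_mem_cons.2 ⟨Or.inr ⟨by decide, Cfsg.Agent.Helper28.S1685.relone_35⟩,
    List.forall_mem_cons.2 ⟨Or.inr ⟨by decide, Cfsg.Agent.Helper28.S1685.relone_44⟩,
    List.forall_mem_cons.2 ⟨Or.inr ⟨by decide, Cfsg.Agent.Helper28.S1685.relone_10⟩,
    List.forall_mem_cons.2 ⟨Or.inr ⟨by decide, Cfsg.Agent.Helper28.S1685.relone_11⟩,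
    List.forall_mem_cons.2 ⟨Or.inr ⟨by decide, Cfsg.Agent.Helper28.S1685.relone_12⟩,
    List.forall_mem_cons.2 ⟨Or.inr ⟨by decide, Cfsg.Agent.Helper28.S1685.relone_14⟩,
    List.forall_mem_cons.2 ⟨Or.inr ⟨by decide, Cfsg.Agent.Helper28.S1685.relone_15⟩,
    List.forall_mem_cons.2 ⟨Or.inr ⟨by decide, Cfsg.Agent.Helper28.S1685.relone_13⟩,
    List.forall_mem_cons.2 ⟨Or.inr ⟨by decide, Cfsg.Agent.Helper28.S1685.relone_16⟩,
    List.forall_mem_cons.2 ⟨Or.inr ⟨by decide, Cfsg.Agent.Helper28.S1685.relone_18⟩,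
    List.forall_mem_cons.2 ⟨Or.inr ⟨by decide, Cfsg.Agent.Helper28.S1685.relone_19⟩,
    List.forall_mem_cons.2 ⟨Or.inr ⟨by decide, Cfsg.Agent.Helper28.S1685.relone_21⟩,
    List.forall_mem_cons.2 ⟨Or.inr ⟨by decide, Cfsg.Agent.Helper28.S1685.relone_22⟩,
    List.forall_mem_cons.2 ⟨Or.inr ⟨by decide, Cfsg.Agent.Helper28.S1685.relone_20⟩,
    List.forall_mem_cons.2 ⟨Or.inr ⟨by decide, Cfsg.Agent.Helper28.S1685.relone_23⟩,
    List.forall_mem_cons.2 ⟨Or.inr ⟨by decide, Cfsg.Agent.Helper28.S1685.relone_25⟩,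
    List.forall_mem_cons.2 ⟨Or.inr ⟨by decide, Cfsg.Agent.Helper28.S1685.relone_27⟩,
    List.forall_mem_cons.2 ⟨Or.inr ⟨by decide, Cfsg.Agent.Helper28.S1685.relone_28⟩,
    List.forall_mem_cons.2 ⟨Or.inr ⟨by decide, Cfsg.Agent.Helper28.S1685.relone_26⟩,
    List.forall_mem_cons.2 ⟨Or.inr ⟨by decide, Cfsg.Agent.Helper28.S1685.relone_29⟩,
    List.forall_mem_cons.2 ⟨Or.inr ⟨by decide, Cfsg.Agent.Helper28.S1685.relone_32⟩,
    List.forall_mem_cons.2 ⟨Or.inr ⟨by decide, Cfsg.Agent.Helper28.S1685.relone_33⟩,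
    List.forall_mem_cons.2 ⟨Or.inr ⟨by decide, Cfsg.Agent.Helper28.S1685.relone_31⟩,
    List.forall_mem_cons.2 ⟨Or.inr ⟨by decide, Cfsg.Agent.Helper28.S1685.relone_34⟩,
    List.forall_mem_cons.2 ⟨Or.inr ⟨by decide, Cfsg.Agent.Helper28.S1685.relone_39⟩,
    List.forall_mem_cons.2 ⟨Or.inr ⟨by decide, Cfsg.Agent.Helper28.S1685.relone_37⟩,
    List.forall_mem_cons.2 ⟨Or.inr ⟨by decide, Cfsg.Agent.Helper28.S1685.relone_40⟩,
    List.forall_mem_cons.2 ⟨Or.inr ⟨by decide, Cfsg.Agent.Helper28.S1685.relone_41⟩,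
    List.forall_mem_cons.2 ⟨Or.inr ⟨by decide, Cfsg.Agent.Helper28.S1685.relone_43⟩,
    List.forall_mem_cons.2 ⟨Or.inr ⟨by decide, Cfsg.Agent.Helper28.S1685.relone_36⟩,
    List.forall_mem_cons.2 ⟨Or.inr ⟨by decide, Cfsg.Agent.Helper28.S1685.relone_45⟩,
    List.forall_mem_cons.2 ⟨Or.inr ⟨by decide, Cfsg.Agent.Helper28.S1685.relone_47⟩,
    (fun _ hw => (List.not_mem_nil hw).elim)⟩⟩⟩⟩⟩⟩⟩⟩⟩⟩⟩⟩⟩⟩⟩⟩⟩⟩⟩⟩⟩⟩⟩⟩⟩⟩⟩⟩⟩⟩⟩⟩⟩⟩⟩⟩⟩⟩⟩)

theorem card_T4 : Finite (PresentedGroup T4.D.rels) ∧ Nat.card (PresentedGroup T4.D.rels) ≤ 720 := by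
  have h := T4.index_eq
  have hS : T4.D.S = ∅ := by
    ext s
    constructor
    · rintro ⟨x, hx, -⟩
      exact (List.not_mem_nil hx).elim
    · intro h
      exact h.elim
  have hb : subH T4.D.rels T4.D.S = ⊥ := by
    unfold subH
    rw [hS, Subgroup.closure_empty, Subgroup.map_bot]
  rw [hb, Subgroup.index_bot] at h
  exact ⟨Nat.finite_of_card_ne_zero (by rw [h]; norm_num), h.le⟩

theorem card_T3 : Finite (PresentedGroup T3.D.rels) ∧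
    Nat.card (PresentedGroup T3.D.rels) ≤ 72 * (720) := by
  obtain ⟨hf, hc⟩ := card_T4
  obtain ⟨f, hff⟩ := hom_T4_T3
  have hsub : ∀ x ∈ T3.D.subL, liveT4 x = true := by decide
  have hH : subH T3.D.rels T3.D.S ≤ f.range :=
    map_closure_le_range T3.D.rels liveT4 f (fun x => PresentedGroup.of x) hff T3.D.S (by
      rintro s ⟨x, hx, rfl⟩
      exact ⟨x, hsub x hx, rfl⟩)
  obtain ⟨hfin, hcard⟩ := finite_card_le_of_index (subH T3.D.rels T3.D.S) 72 (by norm_num)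
    T3.index_eq f hH
  exact ⟨hfin, hcard.trans (Nat.mul_le_mul_left 72 hc)⟩

theorem card_A2 : Finite (PresentedGroup A2.D.rels) ∧
    Nat.card (PresentedGroup A2.D.rels) ≤ 243 * (72 * (720)) := by
  obtain ⟨hf, hc⟩ := card_T3
  obtain ⟨f, hff⟩ := hom_T3_A2
  have hsub : ∀ x ∈ A2.D.subL, liveT3 x = true := by decide
  have hH : subH A2.D.rels A2.D.S ≤ f.range :=
    map_closure_le_range A2.D.rels liveT3 f (fun x => PresentedGroup.of x) hff A2.D.S (by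
      rintro s ⟨x, hx, rfl⟩
      exact ⟨x, hsub x hx, rfl⟩)
  obtain ⟨hfin, hcard⟩ := finite_card_le_of_index (subH A2.D.rels A2.D.S) 243 (by norm_num)
    A2.index_eq f hH
  exact ⟨hfin, hcard.trans (Nat.mul_le_mul_left 243 hc)⟩

theorem card_A1 : Finite (PresentedGroup A1.D.rels) ∧
    Nat.card (PresentedGroup A1.D.rels) ≤ 364 * (243 * (72 * (720))) := by
  obtain ⟨hf, hc⟩ := card_A2
  obtain ⟨f, hff⟩ := hom_A2_A1
  have hsub : ∀ x ∈ A1.D.subL, liveA2 x = true := by decide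
  have hH : subH A1.D.rels A1.D.S ≤ f.range :=
    map_closure_le_range A1.D.rels liveA2 f (fun x => PresentedGroup.of x) hff A1.D.S (by
      rintro s ⟨x, hx, rfl⟩
      exact ⟨x, hsub x hx, rfl⟩)
  obtain ⟨hfin, hcard⟩ := finite_card_le_of_index (subH A1.D.rels A1.D.S) 364 (by norm_num)
    A1.index_eq f hH
  exact ⟨hfin, hcard.trans (Nat.mul_le_mul_left 364 hc)⟩

/-- the presented group Fi22 is finite of order at most 64561751654400 -/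
theorem card_Fi22 : Finite Cfsg.Spor.Fi22 ∧ Nat.card Cfsg.Spor.Fi22 ≤ 64561751654400 := by
  obtain ⟨hf, hc⟩ := card_A1
  obtain ⟨f, hff⟩ := hom_A1_Fi22
  have hH : ((Subgroup.closure ({Cfsg.Spor.Fi22.b, Cfsg.Spor.Fi22.c, Cfsg.Spor.Fi22.d, Cfsg.Spor.Fi22.e,
      Cfsg.Spor.Fi22.f, Cfsg.Spor.Fi22.g, Cfsg.Spor.Fi22.h, Cfsg.Spor.Fi22.i} :
        Set (FreeGroup Cfsg.Spor.Fi22.Gen))).map
      (PresentedGroup.mk Cfsg.Agent.Helper28.S1685.rels)) ≤ f.range :=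
    map_closure_le_range Cfsg.Agent.Helper28.S1685.rels liveA1 f (fun x => PresentedGroup.of x) hff _ (by
      intro s hs
      simp only [Set.mem_insert_iff, Set.mem_singleton_iff] at hs
      rcases hs with rfl | rfl | rfl | rfl | rfl | rfl | rfl | rfl
      · exact ⟨Gen.b, rfl, rfl⟩
      · exact ⟨Gen.c, rfl, rfl⟩
      · exact ⟨Gen.d, rfl, rfl⟩
      · exact ⟨Gen.e, rfl, rfl⟩
      · exact ⟨Gen.f, rfl, rfl⟩
      · exact ⟨Gen.g, rfl, rfl⟩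
      · exact ⟨Gen.h, rfl, rfl⟩
      · exact ⟨Gen.i, rfl, rfl⟩)
  obtain ⟨hfin, hcard⟩ := finite_card_le_of_index _ 14080 (by norm_num) Cfsg.Agent.S1685.result f hH
  refine ⟨hfin, hcard.trans ?_⟩
  calc 14080 * Nat.card (PresentedGroup A1.D.rels) ≤ 14080 * (364 * (243 * (72 * (720)))) :=
        Nat.mul_le_mul_left 14080 hc
    _ = 64561751654400 := by norm_num

end Cfsg.Agent.Helper27.Fi22Tower
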