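import Cfsg.Agent.Lib.Helper27.Fi22.Lower
import Cfsg.Agent.Lib.Helper27.Fi22.Tower
import Cfsg.Agent.Lib.Helper92.Fi22Perf
import Cfsg.Agent.Lib.Helper92.Rank3Simple
import Cfsg.Agent.S1687

/-!
# The presented group Fi22 is simple of order 64561751654400

The permutation representation on 3510 points is faithful because the order of the presented
group is at most the order of its image; simplicity follows from the rank 3 criterion.
-/

set_option autoImplicit false
set_option maxRecDepth 100000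

namespace Cfsg.Agent.Helper27.Fi22

open Cfsg.Spor.Fi22 (Gen)

theorem card_eq : Nat.card Cfsg.Spor.Fi22 = 64561751654400 := by
  obtain ⟨hfin, hle⟩ := Cfsg.Agent.Helper27.Fi22Tower.card_Fi22
  have h1 := card_range_ge
  have h2 : Nat.card phi.range ≤ Nat.card Cfsg.Spor.Fi22 :=
    Nat.card_le_card_of_surjective _ phi.rangeRestrict_surjective
  omega

theorem finite_Fi22 : Finite Cfsg.Spor.Fi22 := Cfsg.Agent.Helper27.Fi22Tower.card_Fi22.1

theorem phi_injective : Function.Injective phi := by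
  haveI := finite_Fi22
  have h1 := card_range_ge
  have h2 : Nat.card Cfsg.Spor.Fi22 ≤ Nat.card phi.range := by
    rw [card_eq]
    exact h1
  have hb := phi.rangeRestrict_surjective.bijective_of_nat_card_le h2
  intro x y hxy
  apply hb.1
  exact Subtype.ext hxy

/-- the word `a b c d e h` -/
def w6 : List Gen := [.a, .b, .c, .d, .e, .h]

theorem chk_comm : allBelow (fun p => andB
    (Nat.beq (F .a (iter (actW w6) (nat_lit 5) p)) (iter (actW w6) (nat_lit 5) (F .a p)))
    (Nat.blt (iter (actW w6) (nat_lit 5) p) NP)) NP = true := by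
  decide +kernel

theorem chk_fix0 : andB (Nat.beq (iter (actW w6) (nat_lit 5) 0) 0)
    (andB (Nat.beq (F .a 0) 0) (andB (Nat.beq (F .c 0) 0) (andB (Nat.beq (F .d 0) 0)
      (andB (Nat.beq (F .e 0) 0) (andB (Nat.beq (F .f 0) 0) (andB (Nat.beq (F .g 0) 0)
        (andB (Nat.beq (F .h 0) 0) (Nat.beq (F .i 0) 0)))))))) = true := by
  decide +kernel

theorem chk_trans : allBelow (fun x => inOrb 0 x) NP = true := by
  decide +kernel

/-- the subgroup generators of statement S1687 -/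
abbrev S87 : Set (FreeGroup Gen) :=
  {Cfsg.Spor.Fi22.a, Cfsg.Spor.Fi22.c, Cfsg.Spor.Fi22.d, Cfsg.Spor.Fi22.e, Cfsg.Spor.Fi22.f,
    Cfsg.Spor.Fi22.g, Cfsg.Spor.Fi22.h, Cfsg.Spor.Fi22.i,
    (Cfsg.Spor.Fi22.a * Cfsg.Spor.Fi22.b * Cfsg.Spor.Fi22.c * Cfsg.Spor.Fi22.d * Cfsg.Spor.Fi22.e *
      Cfsg.Spor.Fi22.h) ^ 5}

/-- the subgroup of statement S1687 -/
abbrev H87 : Subgroup Cfsg.Spor.Fi22 :=
  (Subgroup.closure S87).map (PresentedGroup.mk rels)

theorem phi_mk' (r : FreeGroup Gen) : phi (PresentedGroup.mk rels r) = FreeGroup.lift σ r := rfl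

/-- the image of the last generator of `H87` -/
theorem phi_t : phi (PresentedGroup.mk rels ((Cfsg.Spor.Fi22.a * Cfsg.Spor.Fi22.b * Cfsg.Spor.Fi22.c *
    Cfsg.Spor.Fi22.d * Cfsg.Spor.Fi22.e * Cfsg.Spor.Fi22.h) ^ 5)) = σW w6 ^ 5 := by
  rw [phi_mk']
  simp only [map_pow, map_mul, FreeGroup.lift_apply_of]
  simp [σW, w6, mul_assoc]

theorem phi_gen (x : Gen) : phi (PresentedGroup.mk rels (FreeGroup.of x)) = σ x := phi_of x

theorem t_val (p : Fin 3510) : ((σW w6 ^ 5) p).val = iter (actW w6) 5 p.val :=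
  pow_val (σW w6) (actW w6) (σW_val w6) 5 p

theorem t_comm : σW w6 ^ 5 * σ .a = σ .a * σW w6 ^ 5 := by
  ext p
  rw [Equiv.Perm.mul_apply, Equiv.Perm.mul_apply, t_val, σ_val, σ_val, t_val]
  have h := allBelow_sound chk_comm p.val p.2
  exact (Nat.eq_of_beq_eq_true (andB_eq_true h).1).symm

/-- every element of `H87` fixes the point `0` -/
theorem H87_fix : ∀ h ∈ H87, phi h 0 = 0 := by
  have hc := chk_fix0
  obtain ⟨ht, hc⟩ := andB_eq_true hc
  obtain ⟨ha, hc⟩ := andB_eq_true hc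
  obtain ⟨hc', hc⟩ := andB_eq_true hc
  obtain ⟨hd, hc⟩ := andB_eq_true hc
  obtain ⟨he, hc⟩ := andB_eq_true hc
  obtain ⟨hf, hc⟩ := andB_eq_true hc
  obtain ⟨hg, hc⟩ := andB_eq_true hc
  obtain ⟨hh, hi⟩ := andB_eq_true hc
  have gen : ∀ x : Gen, F x 0 = 0 → phi (PresentedGroup.mk rels (FreeGroup.of x)) 0 = 0 := by
    intro x hx
    rw [phi_gen]
    apply Fin.ext
    rw [σ_val]
    exact hx
  rintro h ⟨w, hw, rfl⟩
  induction hw using Subgroup.closure_induction with
  | mem s hs =>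
    simp only [Set.mem_insert_iff, Set.mem_singleton_iff] at hs
    rcases hs with rfl | rfl | rfl | rfl | rfl | rfl | rfl | rfl | rfl
    · exact gen .a (Nat.eq_of_beq_eq_true ha)
    · exact gen .c (Nat.eq_of_beq_eq_true hc')
    · exact gen .d (Nat.eq_of_beq_eq_true hd)
    · exact gen .e (Nat.eq_of_beq_eq_true he)
    · exact gen .f (Nat.eq_of_beq_eq_true hf)
    · exact gen .g (Nat.eq_of_beq_eq_true hg)
    · exact gen .h (Nat.eq_of_beq_eq_true hh)
    · exact gen .i (Nat.eq_of_beq_eq_true hi)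
    · have := phi_t
      rw [this]
      apply Fin.ext
      rw [t_val]
      exact Nat.eq_of_beq_eq_true ht
  | one => simp
  | mul a b _ _ ha hb =>
    rw [map_mul, map_mul, Equiv.Perm.mul_apply, hb, ha]
  | inv a _ ha =>
    rw [map_inv, map_inv]
    exact (Equiv.Perm.inv_eq_iff_eq).mpr ha.symm

/-- the generator `a` centralizes `H87` -/
theorem H87_comm : ∀ h ∈ H87, h * (PresentedGroup.of Gen.a : Cfsg.Spor.Fi22) =
    PresentedGroup.of Gen.a * h := by
  have gen : ∀ x : Gen, Cfsg.Spor.coxLabel Cfsg.Spor.Fi22.edges x Gen.a = 2 →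
      (PresentedGroup.mk rels (FreeGroup.of x) : Cfsg.Spor.Fi22) * PresentedGroup.of Gen.a =
        PresentedGroup.of Gen.a * PresentedGroup.mk rels (FreeGroup.of x) :=
    fun x hx => Cfsg.Agent.Helper92.Fi22Perf.commute_of_not_adj x Gen.a hx
  rintro h ⟨w, hw, rfl⟩
  induction hw using Subgroup.closure_induction with
  | mem s hs =>
    simp only [Set.mem_insert_iff, Set.mem_singleton_iff] at hs
    rcases hs with rfl | rfl | rfl | rfl | rfl | rfl | rfl | rfl | rfl
    · rfl
    · exact gen .c rfl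
    · exact gen .d rfl
    · exact gen .e rfl
    · exact gen .f rfl
    · exact gen .g rfl
    · exact gen .h rfl
    · exact gen .i rfl
    · apply phi_injective
      rw [map_mul, map_mul]
      have h1 := phi_t
      have h2 : phi (PresentedGroup.of Gen.a) = σ .a := phi_of .a
      rw [h1, h2]
      exact t_comm
  | one => simp
  | mul a b _ _ ha hb =>
    rw [map_mul, mul_assoc, hb, ← mul_assoc, ha, mul_assoc]
  | inv a _ ha =>
    rw [map_inv]
    rw [eq_mul_inv_iff_mul_eq, mul_assoc, ← ha, ← mul_assoc, inv_mul_cancel, one_mul]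

/-- the image of the presented group is transitive -/
theorem phi_trans (x : Fin 3510) : ∃ g : Cfsg.Spor.Fi22, phi g 0 = x := by
  obtain ⟨r, hr, hrx⟩ := reach 0 (by norm_num) _ x.val x.2 (allBelow_sound chk_trans x.val x.2) rfl
  obtain ⟨g, rfl⟩ := hr
  exact ⟨g, Fin.ext hrx⟩

theorem H87_core : H87.normalCore = ⊥ := by
  rw [eq_bot_iff]
  intro g hg
  rw [Subgroup.mem_bot]
  apply phi_injective
  rw [map_one]
  ext x
  obtain ⟨u, rfl⟩ := phi_trans x
  have hn : (H87.normalCore).Normal := Subgroup.normalCore_normal H87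
  have h1 : u⁻¹ * g * u ∈ H87.normalCore := by
    have := hn.conj_mem g hg u⁻¹
    rwa [inv_inv] at this
  have h2 := H87_fix _ (Subgroup.normalCore_le H87 h1)
  rw [map_mul, map_mul, Equiv.Perm.mul_apply, Equiv.Perm.mul_apply, map_inv] at h2
  have h3 := (Equiv.Perm.inv_eq_iff_eq).mp h2
  rw [Equiv.Perm.one_apply]
  exact congrArg Fin.val h3

theorem simple_Fi22 : IsSimpleGroup Cfsg.Spor.Fi22 := by
  haveI := finite_Fi22
  obtain ⟨hidx, q₁, q₂, h1, h2⟩ := Cfsg.Agent.S1687.result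
  exact Cfsg.Agent.Helper92.Rank3Simple.isSimpleGroup_of_rank3 H87 hidx q₁ q₂ h1 h2
    (PresentedGroup.of Gen.a) H87_comm Cfsg.Agent.Helper92.Fi22Perf.normalClosure_a
    Cfsg.Agent.Helper92.Fi22Perf.commutator_eq_top H87_core

end Cfsg.Agent.Helper27.Fi22
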