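import Mathlib

/-!
# Binary trees of packed table chunks

Large lookup tables are stored as binary trees whose leaves are 512-bit literals, so that kernel
evaluation of a lookup only produces small intermediate numbers.
-/

set_option autoImplicit false

namespace Cfsg.Agent.Helper27

/-- a binary tree of packed chunks; a node remembers the index bit it branches on -/
inductive BT where
  | leaf (v : Nat) : BT
  | node (i : Nat) (l r : BT) : BT

/-- lookup of a 16-bit entry (32 entries per leaf) -/
noncomputable def BT.get16 (t : BT) : Nat → Nat :=
  BT.rec (motive := fun _ => Nat → Nat)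
    (fun v p => Nat.land (Nat.shiftRight v (Nat.mul (nat_lit 16) (Nat.land p (nat_lit 31)))) (nat_lit 65535))
    (fun i _ _ ihl ihr p =>
      Bool.rec (motive := fun _ => Nat) (ihl p) (ihr p)
        (Nat.beq (Nat.land (Nat.shiftRight p i) (nat_lit 1)) (nat_lit 1))) t

/-- lookup of a 32-bit entry (16 entries per leaf) -/
noncomputable def BT.get32 (t : BT) : Nat → Nat :=
  BT.rec (motive := fun _ => Nat → Nat)
    (fun v p => Nat.land (Nat.shiftRight v (Nat.mul (nat_lit 32) (Nat.land p (nat_lit 15)))) (nat_lit 4294967295))
    (fun i _ _ ihl ihr p =>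
      Bool.rec (motive := fun _ => Nat) (ihl p) (ihr p)
        (Nat.beq (Nat.land (Nat.shiftRight p i) (nat_lit 1)) (nat_lit 1))) t

end Cfsg.Agent.Helper27
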