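import Cfsg.Agent.Lib.Helper28.TCCheck

/-!
# Glue lemmas for towers of presented groups

An upper bound for the order of a group from the index of a subgroup that is covered by the
image of a finite group, and the homomorphism between presented groups that kills some
generators.
-/

set_option autoImplicit false

namespace Cfsg.Agent.Helper27.Fi22Glue

open Cfsg.Agent.Helper28

theorem finite_card_le_of_index {G K : Type*} [Group G] [Group K] [Finite K] (H : Subgroup G)
    (n : ℕ) (hn : n ≠ 0) (hidx : H.index = n) (f : K →* G) (hH : H ≤ f.range) :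
    Finite G ∧ Nat.card G ≤ n * Nat.card K := by
  have hfr : Finite f.range := by
    have : Finite (Set.range f) := Set.finite_range f
    exact this
  have hHfin : Finite H := by
    have : (H : Set G).Finite := Set.Finite.subset (Set.toFinite (f.range : Set G)) hH
    exact this
  have hidx0 : H.index ≠ 0 := by rw [hidx]; exact hn
  have hfi : H.FiniteIndex := ⟨hidx0⟩
  have hG : Finite G := by
    have e := Subgroup.groupEquivQuotientProdSubgroup (s := H)
    have : Finite (G ⧸ H) := Subgroup.finite_quotient_of_finiteIndex
    exact Finite.of_equiv _ e.symm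
  refine ⟨hG, ?_⟩
  have h1 : Nat.card G = H.index * Nat.card H := (Subgroup.index_mul_card H).symm
  have h2 : Nat.card H ≤ Nat.card f.range := Subgroup.card_le_of_le hH
  have h3 : Nat.card f.range ≤ Nat.card K := by
    have : Function.Surjective f.rangeRestrict := f.rangeRestrict_surjective
    exact Nat.card_le_card_of_surjective _ this
  rw [h1, hidx]
  exact Nat.mul_le_mul_left n (h2.trans h3)

section Hom

variable {α : Type} (rels : Set (FreeGroup α)) (relL : List (Word α)) (live : α → Bool)

/-- images of the generators -/
noncomputable def gmap (x : α) : PresentedGroup rels :=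
  if live x = true then PresentedGroup.of x else 1

theorem lift_gmap_live (w : Word α) (hw : ∀ l ∈ w, live l.1 = true) :
    FreeGroup.lift (gmap rels live) (FreeGroup.mk w) = wG rels w := by
  induction w with
  | nil =>
    rw [wG_nil]
    exact map_one _
  | cons l w ih =>
    have h1 : FreeGroup.mk (l :: w) = FreeGroup.mk [l] * FreeGroup.mk w := rfl
    rw [h1, map_mul, ih (fun m hm => hw m (List.mem_cons_of_mem _ hm)), wG_cons]
    congr 1
    obtain ⟨x, b⟩ := l
    have hx : live x = true := hw (x, b) (List.mem_cons_self ..)
    cases b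
    · have : FreeGroup.mk [(x, false)] = (FreeGroup.of x)⁻¹ := rfl
      rw [this, map_inv, FreeGroup.lift_apply_of, lG_false, gmap, if_pos hx]
    · have : FreeGroup.mk [(x, true)] = FreeGroup.of x := rfl
      rw [this, FreeGroup.lift_apply_of, lG_true, gmap, if_pos hx]

theorem exists_hom_of_words
    (h : ∀ w ∈ relL, (∃ x, live x = false ∧ w = [(x, true)]) ∨
      ((∀ l ∈ w, live l.1 = true) ∧ wG rels w = 1)) :
    ∃ f : PresentedGroup {r : FreeGroup α | ∃ w ∈ relL, r = FreeGroup.mk w} →* PresentedGroup rels,
      ∀ x, live x = true → f (PresentedGroup.of x) = PresentedGroup.of x := by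
  have hr : ∀ r ∈ {r : FreeGroup α | ∃ w ∈ relL, r = FreeGroup.mk w},
      FreeGroup.lift (gmap rels live) r = 1 := by
    rintro r ⟨w, hw, rfl⟩
    rcases h w hw with ⟨x, hx, rfl⟩ | ⟨h1, h2⟩
    · have : FreeGroup.mk [(x, true)] = FreeGroup.of x := rfl
      rw [this, FreeGroup.lift_apply_of, gmap, if_neg (by simp [hx])]
    · rw [lift_gmap_live rels live w h1, h2]
  refine ⟨PresentedGroup.toGroup hr, ?_⟩
  intro x hx
  rw [PresentedGroup.toGroup.of, gmap, if_pos hx]

theorem map_closure_le_range {K : Type*} [Group K] (f : K →* PresentedGroup rels) (g : α → K)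
    (hf : ∀ x, live x = true → f (g x) = PresentedGroup.of x) (S : Set (FreeGroup α))
    (hS : ∀ s ∈ S, ∃ x, live x = true ∧ s = FreeGroup.of x) :
    (Subgroup.closure S).map (PresentedGroup.mk rels) ≤ f.range := by
  rw [Subgroup.map_le_iff_le_comap, Subgroup.closure_le]
  intro s hs
  obtain ⟨x, hx, rfl⟩ := hS s hs
  show PresentedGroup.mk rels (FreeGroup.of x) ∈ f.range
  exact ⟨g x, hf x hx⟩

end Hom

end Cfsg.Agent.Helper27.Fi22Glue
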