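import Cfsg.Agent.Lib.Helper27.Fi22.Model

/-!
# The homomorphism from the presented Fi22 to `Perm (Fin 3510)`
-/

set_option autoImplicit false

namespace Cfsg.Agent.Helper27.Fi22

open Cfsg.Spor.Fi22 (Gen)

theorem NP_eq : NP = 3510 := rfl

theorem F_lt (x : Gen) {p : Nat} (hp : p < 3510) : F x p < 3510 := by
  have h := allBelow_sound (allG_sound chk_invol x) p hp
  have h1 := (andB_eq_true h).1
  have := Nat.ble_eq.mp h1
  simp only [NP_eq] at this
  omega

theorem F_F (x : Gen) {p : Nat} (hp : p < 3510) : F x (F x p) = p := by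
  have h := allBelow_sound (allG_sound chk_invol x) p hp
  exact Nat.eq_of_beq_eq_true (andB_eq_true h).2

/-- the permutation of a generator -/
def σ (x : Gen) : Equiv.Perm (Fin 3510) where
  toFun p := ⟨F x p, F_lt x p.2⟩
  invFun p := ⟨F x p, F_lt x p.2⟩
  left_inv p := Fin.ext (F_F x p.2)
  right_inv p := Fin.ext (F_F x p.2)

@[simp] theorem σ_val (x : Gen) (p : Fin 3510) : (σ x p).val = F x p.val := rfl

theorem iter_lt {f : Nat → Nat} (hf : ∀ p, p < 3510 → f p < 3510) (n : Nat) {p : Nat}
    (hp : p < 3510) : iter f n p < 3510 := by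
  induction n generalizing p with
  | zero => exact hp
  | succ n ih => exact ih (hf p hp)

theorem pow_val (τ : Equiv.Perm (Fin 3510)) (f : Nat → Nat)
    (h : ∀ p : Fin 3510, (τ p).val = f p.val) (n : Nat) (p : Fin 3510) :
    ((τ ^ n) p).val = iter f n p.val := by
  induction n generalizing p with
  | zero => rfl
  | succ n ih =>
    rw [pow_succ, Equiv.Perm.mul_apply, ih, h]
    rfl

theorem pow_eq_one_of_iter (τ : Equiv.Perm (Fin 3510)) (f : Nat → Nat)
    (h : ∀ p : Fin 3510, (τ p).val = f p.val) (n : Nat)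
    (hn : ∀ p, p < 3510 → iter f n p = p) : τ ^ n = 1 := by
  ext p
  rw [pow_val τ f h n p, hn p.val p.2]
  rfl

theorem cox_rel (x y : Gen) : (σ x * σ y) ^ (Cfsg.Spor.coxLabel Cfsg.Spor.Fi22.edges x y) = 1 := by
  rw [lab_eq]
  apply pow_eq_one_of_iter (σ x * σ y) (fun q => F x (F y q)) (fun p => rfl)
  intro p hp
  have h := allBelow_sound (allG_sound (allG_sound chk_cox x) y) p hp
  exact Nat.eq_of_beq_eq_true h

/-- the permutation of a word -/
def σW (w : List Gen) : Equiv.Perm (Fin 3510) := (w.map σ).prod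

theorem σW_val (w : List Gen) (p : Fin 3510) : (σW w p).val = actW w p.val := by
  induction w generalizing p with
  | nil => rfl
  | cons x w ih =>
    show ((σ x * σW w) p).val = _
    rw [Equiv.Perm.mul_apply, σ_val, ih]
    rfl

theorem w1_rel : σW w1 ^ 10 = 1 :=
  pow_eq_one_of_iter _ (actW w1) (σW_val w1) 10 fun p hp =>
    Nat.eq_of_beq_eq_true (allBelow_sound chk_w1 p hp)

theorem w2_rel : σW w2 ^ 9 = 1 :=
  pow_eq_one_of_iter _ (actW w2) (σW_val w2) 9 fun p hp =>
    Nat.eq_of_beq_eq_true (allBelow_sound chk_w2 p hp)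

theorem w3_rel : σW w3 ^ 9 = 1 :=
  pow_eq_one_of_iter _ (actW w3) (σW_val w3) 9 fun p hp =>
    Nat.eq_of_beq_eq_true (allBelow_sound chk_w3 p hp)

/-- the relators of the presentation -/
abbrev rels : Set (FreeGroup Gen) :=
  Cfsg.Spor.coxRelators Cfsg.Spor.Fi22.edges ∪ {r | r ∈ Cfsg.Spor.Fi22.extra}

theorem hrel : ∀ r ∈ rels, FreeGroup.lift σ r = 1 := by
  intro r hr
  rcases hr with ⟨x, _, y, _, rfl⟩ | hr
  · rw [map_pow, map_mul, FreeGroup.lift_apply_of, FreeGroup.lift_apply_of]
    exact cox_rel x y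
  · have hr' : r ∈ Cfsg.Spor.Fi22.extra := hr
    simp only [Cfsg.Spor.Fi22.extra, List.mem_cons, List.not_mem_nil, or_false] at hr'
    rcases hr' with rfl | rfl | rfl
    · simp only [map_pow, map_mul, FreeGroup.lift_apply_of]
      have := w1_rel
      simpa [σW, w1, mul_assoc] using this
    · simp only [map_pow, map_mul, FreeGroup.lift_apply_of]
      have := w2_rel
      simpa [σW, w2, mul_assoc] using this
    · simp only [map_pow, map_mul, FreeGroup.lift_apply_of]
      have := w3_rel
      simpa [σW, w3, mul_assoc] using this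

/-- the permutation representation of the presented group -/
def phi : Cfsg.Spor.Fi22 →* Equiv.Perm (Fin 3510) := PresentedGroup.toGroup hrel

theorem phi_of (x : Gen) : phi (PresentedGroup.of x) = σ x := PresentedGroup.toGroup.of hrel

end Cfsg.Agent.Helper27.Fi22
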