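import Cfsg.Agent.Lib.Helper27.Fi22.Hom
import Cfsg.Agent.Lib.Helper27.Fi22.Chain
import Cfsg.Agent.Lib.Helper27.Fi22.OrbTabs
import Cfsg.Agent.Lib.Helper92.Fi22Glue

/-!
# A lower bound for the order of the image of the presented Fi22 in `Perm (Fin 3510)`

A stabilizer chain with base `0, 1, 5, 9, 8, 13` and orbit sizes `3510, 2816, 567, 96, 30, 4`:
strong generators are given by tables, identified with words in earlier elements, and the
orbits are certified by tables of Schreier vectors.
-/

set_option autoImplicit false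
set_option maxRecDepth 100000

namespace Cfsg.Agent.Helper27.Fi22

open Cfsg.Spor.Fi22 (Gen)

/-- disjunction through the recursor -/
def orB (a b : Bool) : Bool := Bool.rec b true a

theorem orB_eq_true {a b : Bool} (h : orB a b = true) : a = true ∨ b = true := by
  cases a <;> cases b <;> simp_all [orB]

/-- a Boolean predicate holds for all members of a list -/
def allLst {β : Type} (f : β → Bool) : List β → Bool
  | [] => true
  | a :: l => andB (f a) (allLst f l)

theorem allLst_sound {β : Type} {f : β → Bool} : ∀ {l : List β}, allLst f l = true → ∀ a ∈ l, f a = true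
  | [], _, a, ha => absurd ha List.not_mem_nil
  | b :: l, h, a, ha => by
    obtain ⟨h1, h2⟩ := andB_eq_true h
    rcases List.mem_cons.1 ha with rfl | ha
    · exact h1
    · exact allLst_sound h2 a ha

/-- the tables of the generators and the strong generators -/
def T : Nat → Nat
  | 0 => tab0 | 1 => tab1 | 2 => tab2 | 3 => tab3 | 4 => tab4 | 5 => tab5 | 6 => tab6
  | 7 => tab7 | 8 => tab8 | 9 => tab9 | 10 => tab10 | 11 => tab11 | 12 => tab12 | 13 => tab13
  | 14 => tab14 | 15 => tab15 | 16 => tab16 | 17 => tab17 | 18 => tab18 | 19 => tab19 | _ => 0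

/-- the tables of the inverses -/
def Ti : Nat → Nat
  | 0 => tab0 | 1 => tab1 | 2 => tab2 | 3 => tab3 | 4 => tab4 | 5 => tab5 | 6 => tab6
  | 7 => tab7 | 8 => tab8 | 9 => tin9 | 10 => tin10 | 11 => tin11 | 12 => tin12 | 13 => tin13
  | 14 => tin14 | 15 => tin15 | 16 => tin16 | 17 => tin17 | 18 => tin18 | 19 => tin19 | _ => 0

theorem chk_tabs : allBelow (fun k => allBelow (fun p =>
    andB (Nat.blt (look (T k) p) NP) (andB (Nat.blt (look (Ti k) p) NP)
      (andB (Nat.beq (look (Ti k) (look (T k) p)) p) (Nat.beq (look (T k) (look (Ti k) p)) p))))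
    NP) 20 = true := by
  decide +kernel

theorem tabs_ok {k p : Nat} (hk : k < 20) (hp : p < 3510) :
    look (T k) p < 3510 ∧ look (Ti k) p < 3510 ∧ look (Ti k) (look (T k) p) = p ∧
      look (T k) (look (Ti k) p) = p := by
  have h := allBelow_sound (allBelow_sound chk_tabs k hk) p hp
  obtain ⟨h1, h⟩ := andB_eq_true h
  obtain ⟨h2, h⟩ := andB_eq_true h
  obtain ⟨h3, h4⟩ := andB_eq_true h
  have h1' := Nat.ble_eq.mp h1
  have h2' := Nat.ble_eq.mp h2
  simp only [NP_eq] at h1' h2'
  exact ⟨by omega, by omega, Nat.eq_of_beq_eq_true h3, Nat.eq_of_beq_eq_true h4⟩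

/-- the permutations of the generators and the strong generators -/
def elt (k : Nat) : Equiv.Perm (Fin 3510) :=
  if hk : k < 20 then
    { toFun := fun p => ⟨look (T k) p.val, (tabs_ok hk p.2).1⟩
      invFun := fun p => ⟨look (Ti k) p.val, (tabs_ok hk p.2).2.1⟩
      left_inv := fun p => Fin.ext (tabs_ok hk p.2).2.2.1
      right_inv := fun p => Fin.ext (tabs_ok hk p.2).2.2.2 }
  else 1

theorem elt_val {k : Nat} (hk : k < 20) (p : Fin 3510) : (elt k p).val = look (T k) p.val := by
  unfold elt
  rw [dif_pos hk]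
  rfl

theorem elt_symm_val {k : Nat} (hk : k < 20) (p : Fin 3510) :
    ((elt k)⁻¹ p).val = look (Ti k) p.val := by
  unfold elt
  rw [dif_pos hk]
  rfl

/-- a signed letter applied to a point -/
def app (l : Nat × Bool) (p : Nat) : Nat := Bool.rec (look (Ti l.1) p) (look (T l.1) p) l.2

/-- a word applied to a point, last letter first -/
def ev : List (Nat × Bool) → Nat → Nat
  | [], p => p
  | l :: w, p => app l (ev w p)

/-- the permutation of a signed letter -/
def lperm (l : Nat × Bool) : Equiv.Perm (Fin 3510) := Bool.rec (elt l.1)⁻¹ (elt l.1) l.2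

theorem lperm_val (l : Nat × Bool) (hl : l.1 < 20) (p : Fin 3510) :
    (lperm l p).val = app l p.val := by
  obtain ⟨k, s⟩ := l
  cases s
  · exact elt_symm_val hl p
  · exact elt_val hl p

/-- the permutation of a word -/
def wprod (w : List (Nat × Bool)) : Equiv.Perm (Fin 3510) := (w.map lperm).prod

theorem wprod_val (w : List (Nat × Bool)) (hw : ∀ l ∈ w, l.1 < 20) (p : Fin 3510) :
    (wprod w p).val = ev w p.val := by
  induction w generalizing p with
  | nil => rfl
  | cons l w ih =>
    have h1 : wprod (l :: w) = lperm l * wprod w := by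
      unfold wprod
      rw [List.map_cons, List.prod_cons]
    rw [h1, Equiv.Perm.mul_apply, lperm_val l (hw l (List.mem_cons_self ..)),
      ih (fun m hm => hw m (List.mem_cons_of_mem _ hm))]
    rfl

/-- the words of the strong generators -/
def W : Nat → List (Nat × Bool)
  | 9 => word9 | 10 => word10 | 11 => word11 | 12 => word12 | 13 => word13 | 14 => word14
  | 15 => word15 | 16 => word16 | 17 => word17 | 18 => word18 | 19 => word19 | _ => []

theorem chk_words : allBelow (fun k => orB (Nat.blt k 9)
    (andB (allLst (fun l => Nat.blt l.1 k) (W k))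
      (allBelow (fun p => Nat.beq (look (T k) p) (ev (W k) p)) NP))) 20 = true := by
  decide +kernel

theorem elt_eq_wprod {k : Nat} (h9 : 9 ≤ k) (hk : k < 20) :
    elt k = wprod (W k) ∧ ∀ l ∈ W k, l.1 < k := by
  have h := allBelow_sound chk_words k hk
  rcases orB_eq_true h with h | h
  · have := Nat.ble_eq.mp h
    omega
  · obtain ⟨h1, h2⟩ := andB_eq_true h
    have hlt : ∀ l ∈ W k, l.1 < k := by
      intro l hl
      have := Nat.ble_eq.mp (allLst_sound h1 l hl)
      omega
    refine ⟨?_, hlt⟩
    ext p
    rw [elt_val hk, wprod_val (W k) (fun l hl => by have := hlt l hl; omega)]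
    exact Nat.eq_of_beq_eq_true (allBelow_sound h2 p.val p.2)

/-- the index of a generator -/
def gIdx : Gen → Nat
  | .a => 0 | .b => 1 | .c => 2 | .d => 3 | .e => 4 | .f => 5 | .g => 6 | .h => 7 | .i => 8

theorem elt_gIdx (x : Gen) : elt (gIdx x) = σ x := by
  ext p
  rw [elt_val (by cases x <;> decide)]
  cases x <;> rfl

theorem elt_mem_small {k : Nat} (hk : k < 9) : elt k ∈ phi.range := by
  have key : ∀ x : Gen, elt (gIdx x) ∈ phi.range := fun x =>
    ⟨PresentedGroup.of x, by rw [phi_of, elt_gIdx]⟩
  interval_cases k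
  · exact key .a
  · exact key .b
  · exact key .c
  · exact key .d
  · exact key .e
  · exact key .f
  · exact key .g
  · exact key .h
  · exact key .i

theorem elt_mem : ∀ k, k ≤ 20 → ∀ j, j < k → elt j ∈ phi.range := by
  intro k
  induction k with
  | zero => intro _ j hj; omega
  | succ k ih =>
    intro hk j hj
    rcases Nat.lt_succ_iff_lt_or_eq.1 hj with hlt | rfl
    · exact ih (by omega) j hlt
    · by_cases h9 : j < 9
      · exact elt_mem_small h9
      · obtain ⟨heq, hlt⟩ := elt_eq_wprod (by omega) (by omega : j < 20)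
        rw [heq]
        apply Subgroup.list_prod_mem
        intro g hg
        obtain ⟨l, hl, rfl⟩ := List.mem_map.1 hg
        have := ih (by omega) l.1 (hlt l hl)
        obtain ⟨i, s⟩ := l
        cases s
        · exact phi.range.inv_mem this
        · exact this

/-- the base points -/
def bptN : Nat → Nat
  | 0 => 0 | 1 => 1 | 2 => 5 | 3 => 9 | 4 => 8 | 5 => 13 | _ => 0

theorem bptN_lt (j : Nat) : bptN j < 3510 := by
  unfold bptN
  split <;> norm_num

/-- the base points -/
def bpt (j : Nat) : Fin 3510 := ⟨bptN j, bptN_lt j⟩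

/-- the stabilizer chain -/
def Rch : Nat → Subgroup (Equiv.Perm (Fin 3510))
  | 0 => phi.range
  | j + 1 => Rch j ⊓ MulAction.stabilizer (Equiv.Perm (Fin 3510)) (bpt j)

/-- the `k`-th element fixes the first `j` base points -/
def fixB (k j : Nat) : Bool := allBelow (fun i => Nat.beq (look (T k) (bptN i)) (bptN i)) j

theorem elt_mem_Rch {k : Nat} (hk : k < 20) : ∀ {j : Nat}, fixB k j = true → elt k ∈ Rch j
  | 0, _ => elt_mem 20 le_rfl k hk
  | j + 1, h => by
    obtain ⟨h1, h2⟩ := andB_eq_true h
    refine Subgroup.mem_inf.2 ⟨elt_mem_Rch hk h2, ?_⟩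
    rw [MulAction.mem_stabilizer_iff, Equiv.Perm.smul_def]
    apply Fin.ext
    rw [elt_val hk]
    exact Nat.eq_of_beq_eq_true h1

/-- 32-bit lookup -/
def look32 (t p : Nat) : Nat :=
  Nat.land (Nat.shiftRight t (Nat.mul (nat_lit 32) p)) (nat_lit 4294967295)

/-- the orbit tables -/
def orbT : Nat → Nat
  | 0 => orbT0 | 1 => orbT1 | 2 => orbT2 | 3 => orbT3 | 4 => orbT4 | 5 => orbT5 | _ => 0

/-- entry of a point in an orbit table -/
def oEnt (j x : Nat) : Nat := look32 (orbT j) x
/-- validity bit -/
def oValid (e : Nat) : Bool := Nat.beq (Nat.shiftRight e (nat_lit 30)) (nat_lit 1)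
/-- depth -/
def oDepth (e : Nat) : Nat := Nat.land (Nat.shiftRight e (nat_lit 18)) (nat_lit 4095)
/-- parent point -/
def oP (e : Nat) : Nat := Nat.land e (nat_lit 4095)
/-- generator -/
def oK (e : Nat) : Nat := Nat.land (Nat.shiftRight e (nat_lit 12)) (nat_lit 31)
/-- sign -/
def oS (e : Nat) : Bool := Nat.beq (Nat.land (Nat.shiftRight e (nat_lit 17)) (nat_lit 1)) (nat_lit 1)
/-- membership in the orbit -/
def inOrb (j x : Nat) : Bool := oValid (oEnt j x)

/-- the check of one entry of an orbit table -/
def entOK (j x : Nat) : Bool :=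
  orB (Bool.rec true false (inOrb j x))
    (orB (Nat.beq x (bptN j))
      (andB (inOrb j (oP (oEnt j x)))
        (andB (Nat.blt (oDepth (oEnt j (oP (oEnt j x)))) (oDepth (oEnt j x)))
          (andB (Nat.blt (oP (oEnt j x)) NP)
            (andB (Nat.blt (oK (oEnt j x)) 20)
              (andB (fixB (oK (oEnt j x)) j)
                (Nat.beq (app (oK (oEnt j x), oS (oEnt j x)) (oP (oEnt j x))) x)))))))

theorem chk_orb : allBelow (fun j => allBelow (fun x => entOK j x) NP) 6 = true := by
  decide +kernel

theorem reach (j : Nat) (hj : j < 6) : ∀ d x, x < 3510 → inOrb j x = true →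
    oDepth (oEnt j x) = d → ∃ r ∈ Rch j, (r (bpt j)).val = x := by
  intro d
  induction d using Nat.strong_induction_on with
  | _ d ih =>
    intro x hx hv hd
    have hchk : entOK j x = true := allBelow_sound (allBelow_sound chk_orb j hj) x hx
    unfold entOK at hchk
    rcases orB_eq_true hchk with h1 | h1
    · rw [hv] at h1
      cases h1
    · rcases orB_eq_true h1 with h2 | h2
      · refine ⟨1, (Rch j).one_mem, ?_⟩
        rw [Nat.eq_of_beq_eq_true h2]
        rfl
      · obtain ⟨hvp, h3⟩ := andB_eq_true h2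
        obtain ⟨hdp, h4⟩ := andB_eq_true h3
        obtain ⟨hplt, h5⟩ := andB_eq_true h4
        obtain ⟨hk, h6⟩ := andB_eq_true h5
        obtain ⟨hfix, happ⟩ := andB_eq_true h6
        have hdp' := Nat.ble_eq.mp hdp
        have hplt' := Nat.ble_eq.mp hplt
        have hk' := Nat.ble_eq.mp hk
        simp only [NP_eq] at hplt'
        have hk20 : oK (oEnt j x) < 20 := by omega
        obtain ⟨r, hr, hrp⟩ := ih (oDepth (oEnt j (oP (oEnt j x)))) (by omega)
          (oP (oEnt j x)) (by omega) hvp rfl
        have hmem := elt_mem_Rch hk20 hfix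
        have happ' := Nat.eq_of_beq_eq_true happ
        cases hs : oS (oEnt j x) with
        | false =>
          refine ⟨(elt (oK (oEnt j x)))⁻¹ * r, (Rch j).mul_mem ((Rch j).inv_mem hmem) hr, ?_⟩
          rw [Equiv.Perm.mul_apply, elt_symm_val hk20, hrp]
          rw [hs] at happ'
          exact happ'
        | true =>
          refine ⟨elt (oK (oEnt j x)) * r, (Rch j).mul_mem hmem hr, ?_⟩
          rw [Equiv.Perm.mul_apply, elt_val hk20, hrp]
          rw [hs] at happ'
          exact happ'

/-- count the numbers below a bound satisfying a predicate -/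
def countBelow (f : Nat → Bool) : Nat → Nat
  | 0 => 0
  | n + 1 => Bool.rec (countBelow f n) (Nat.succ (countBelow f n)) (f n)

theorem countBelow_eq (f : Nat → Bool) (n : Nat) :
    countBelow f n = ∑ i ∈ Finset.range n, if f i = true then 1 else 0 := by
  induction n with
  | zero => rfl
  | succ n ih =>
    rw [Finset.sum_range_succ, ← ih]
    show Bool.rec (motive := fun _ => Nat) (countBelow f n) (Nat.succ (countBelow f n)) (f n) = _
    cases f n <;> simp

theorem card_filter_eq (f : Nat → Bool) (n : Nat) :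
    ((Finset.univ : Finset (Fin n)).filter (fun x => f x.val = true)).card = countBelow f n := by
  rw [Finset.card_filter, countBelow_eq, ← Fin.sum_univ_eq_sum_range (fun i => if f i = true then 1 else 0) n]

/-- the orbit sizes -/
def osize : Nat → Nat
  | 0 => 3510 | 1 => 2816 | 2 => 567 | 3 => 96 | 4 => 30 | 5 => 4 | _ => 0

theorem chk_count : allBelow (fun j => Nat.beq (countBelow (inOrb j) NP) (osize j)) 6 = true := by
  decide +kernel

theorem chain_step (j : Nat) (hj : j < 6) : osize j * Nat.card (Rch (j + 1)) ≤ Nat.card (Rch j) := by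
  have h := Cfsg.Agent.Helper92.Fi22Glue.card_orbit_mul_le (Rch j) (bpt j)
    ((Finset.univ : Finset (Fin 3510)).filter (fun x => inOrb j x.val = true)) (by
      intro x hx
      obtain ⟨r, hr, hrx⟩ := reach j hj _ x.val x.2 (Finset.mem_filter.1 hx).2 rfl
      exact ⟨r, hr, Fin.ext hrx⟩)
  rw [card_filter_eq] at h
  have hc : countBelow (inOrb j) 3510 = osize j :=
    Nat.eq_of_beq_eq_true (allBelow_sound chk_count j hj)
  rw [hc] at h
  exact h

/-- the image of the presented group has order at least `|Fi22|` -/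
theorem card_range_ge : 64561751654400 ≤ Nat.card phi.range := by
  have h0 : 3510 * Nat.card (Rch 1) ≤ Nat.card phi.range := chain_step 0 (by norm_num)
  have h1 : 2816 * Nat.card (Rch 2) ≤ Nat.card (Rch 1) := chain_step 1 (by norm_num)
  have h2 : 567 * Nat.card (Rch 3) ≤ Nat.card (Rch 2) := chain_step 2 (by norm_num)
  have h3 : 96 * Nat.card (Rch 4) ≤ Nat.card (Rch 3) := chain_step 3 (by norm_num)
  have h4 : 30 * Nat.card (Rch 5) ≤ Nat.card (Rch 4) := chain_step 4 (by norm_num)
  have h5 : 4 * Nat.card (Rch 6) ≤ Nat.card (Rch 5) := chain_step 5 (by norm_num)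
  have h6 : 1 ≤ Nat.card (Rch 6) := Nat.card_pos
  omega

end Cfsg.Agent.Helper27.Fi22
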