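import Mathlib
import Cfsg.Prelude.Def_Spor_Fi22
import Cfsg.Agent.Lib.Helper27.Fi22.Tabs

/-!
# A permutation model of the presented group Fi22 on 3510 points

The nine generators act on `Fin 3510` through packed 12-bit tables; all relators of the
presentation are checked pointwise by the kernel.  The Boolean checkers are written with raw
`Nat` operations so that kernel evaluation is fast.
-/

set_option autoImplicit false

namespace Cfsg.Agent.Helper27.Fi22

open Cfsg.Spor.Fi22 (Gen)

/-- table lookup: 12-bit entries -/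
def look (t p : Nat) : Nat :=
  Nat.land (Nat.shiftRight t (Nat.mul (nat_lit 12) p)) (nat_lit 4095)

/-- conjunction through the recursor -/
def andB (a b : Bool) : Bool := Bool.rec false b a

theorem andB_eq_true {a b : Bool} (h : andB a b = true) : a = true ∧ b = true := by
  cases a <;> cases b <;> simp_all [andB]

/-- a Boolean predicate holds for all numbers below a bound -/
def allBelow (f : Nat → Bool) : Nat → Bool
  | 0 => true
  | n + 1 => andB (f n) (allBelow f n)

theorem allBelow_sound {f : Nat → Bool} : ∀ {n : Nat}, allBelow f n = true → ∀ p, p < n → f p = true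
  | 0, _, p, hp => absurd hp (Nat.not_lt_zero p)
  | n + 1, h, p, hp => by
    obtain ⟨h1, h2⟩ := andB_eq_true h
    rcases Nat.lt_succ_iff_lt_or_eq.1 hp with hlt | rfl
    · exact allBelow_sound h2 p hlt
    · exact h1

/-- iterate a function -/
def iter (f : Nat → Nat) : Nat → Nat → Nat
  | 0, p => p
  | n + 1, p => iter f n (f p)

theorem iter_eq (f : Nat → Nat) (n : Nat) (p : Nat) : iter f n p = f^[n] p := by
  induction n generalizing p with
  | zero => rfl
  | succ n ih => rw [iter, ih, Function.iterate_succ_apply]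

/-- the table of a generator -/
def tabG : Gen → Nat
  | .a => tab0 | .b => tab1 | .c => tab2 | .d => tab3 | .e => tab4
  | .f => tab5 | .g => tab6 | .h => tab7 | .i => tab8

/-- the action of a generator on points -/
def F (x : Gen) (p : Nat) : Nat := look (tabG x) p

/-- a Boolean predicate holds for all generators -/
def allG (f : Gen → Bool) : Bool :=
  andB (f .a) (andB (f .b) (andB (f .c) (andB (f .d) (andB (f .e) (andB (f .f) (andB (f .g)
    (andB (f .h) (f .i))))))))

theorem allG_sound {f : Gen → Bool} (h : allG f = true) (x : Gen) : f x = true := by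
  unfold allG at h
  obtain ⟨ha, h⟩ := andB_eq_true h
  obtain ⟨hb, h⟩ := andB_eq_true h
  obtain ⟨hc, h⟩ := andB_eq_true h
  obtain ⟨hd, h⟩ := andB_eq_true h
  obtain ⟨he, h⟩ := andB_eq_true h
  obtain ⟨hf, h⟩ := andB_eq_true h
  obtain ⟨hg, h⟩ := andB_eq_true h
  obtain ⟨hh, hi⟩ := andB_eq_true h
  cases x <;> assumption

/-- Coxeter labels, written out -/
def lab : Gen → Gen → Nat
  | .a, .a => 1 | .a, .b => 3 | .a, _ => 2
  | .b, .a => 3 | .b, .b => 1 | .b, .c => 3 | .b, _ => 2
  | .c, .b => 3 | .c, .c => 1 | .c, .d => 3 | .c, _ => 2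
  | .d, .c => 3 | .d, .d => 1 | .d, .e => 3 | .d, .h => 3 | .d, _ => 2
  | .e, .d => 3 | .e, .e => 1 | .e, .f => 3 | .e, _ => 2
  | .f, .e => 3 | .f, .f => 1 | .f, .g => 3 | .f, _ => 2
  | .g, .f => 3 | .g, .g => 1 | .g, _ => 2
  | .h, .d => 3 | .h, .h => 1 | .h, .i => 3 | .h, _ => 2
  | .i, .h => 3 | .i, .i => 1 | .i, _ => 2

theorem lab_eq (x y : Gen) : Cfsg.Spor.coxLabel Cfsg.Spor.Fi22.edges x y = lab x y := by
  cases x <;> cases y <;> rfl

/-- action of a word (list of generators), last letter first -/
def actW : List Gen → Nat → Nat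
  | [], p => p
  | x :: w, p => F x (actW w p)

/-- number of points -/
def NP : Nat := nat_lit 3510

theorem chk_invol : allG (fun x => allBelow (fun p =>
    andB (Nat.blt (F x p) NP) (Nat.beq (F x (F x p)) p)) NP) = true := by
  decide +kernel

theorem chk_cox : allG (fun x => allG (fun y => allBelow (fun p =>
    Nat.beq (iter (fun q => F x (F y q)) (lab x y) p) p) NP)) = true := by
  decide +kernel

/-- the spider word -/
def w1 : List Gen := [.d, .c, .b, .d, .e, .f, .d, .h, .i]
/-- an `E₇` Coxeter word -/
def w2 : List Gen := [.a, .b, .c, .d, .e, .f, .h]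
/-- an `E₇` Coxeter word -/
def w3 : List Gen := [.b, .c, .d, .e, .f, .g, .h]

theorem chk_w1 : allBelow (fun p => Nat.beq (iter (actW w1) (nat_lit 10) p) p) NP = true := by
  decide +kernel
theorem chk_w2 : allBelow (fun p => Nat.beq (iter (actW w2) (nat_lit 9) p) p) NP = true := by
  decide +kernel
theorem chk_w3 : allBelow (fun p => Nat.beq (iter (actW w3) (nat_lit 9) p) p) NP = true := by
  decide +kernel

end Cfsg.Agent.Helper27.Fi22
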