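import Cfsg.Agent.Lib.Helper28.TCSeed
import Cfsg.Prelude.Def_Spor_Fi22

/-!
# Packed coset tables for the verified Todd–Coxeter framework of `Helper28`

Points are `Fin n`; the tables of the nine generators, the levels, the certificate indices and
the parent letters are packed into natural number literals.  All generators are involutions, so
the inverse table is the table itself.
-/

set_option autoImplicit false

namespace Cfsg.Agent.Helper27.Fi22TC

open Cfsg.Agent.Helper28
open Cfsg.Spor.Fi22 (Gen)

noncomputable section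

/-- 12-bit lookup -/
def look12 (t p : Nat) : Nat :=
  Nat.land (Nat.shiftRight t (Nat.mul (nat_lit 12) p)) (nat_lit 4095)
/-- 16-bit lookup -/
def look16 (t p : Nat) : Nat :=
  Nat.land (Nat.shiftRight t (Nat.mul (nat_lit 16) p)) (nat_lit 65535)
/-- 8-bit lookup -/
def look8 (t p : Nat) : Nat :=
  Nat.land (Nat.shiftRight t (Nat.mul (nat_lit 8) p)) (nat_lit 255)
/-- 4-bit lookup -/
def look4 (t p : Nat) : Nat :=
  Nat.land (Nat.shiftRight t (Nat.mul (nat_lit 4) p)) (nat_lit 15)

/-- a Boolean predicate holds for all numbers below a bound -/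
def allBelow (f : Nat → Bool) : Nat → Bool
  | 0 => true
  | n + 1 => andB (f n) (allBelow f n)

theorem allBelow_sound {f : Nat → Bool} : ∀ {n : Nat}, allBelow f n = true → ∀ p, p < n → f p = true
  | 0, _, p, hp => absurd hp (Nat.not_lt_zero p)
  | n + 1, h, p, hp => by
    obtain ⟨h1, h2⟩ := andB_true h
    rcases Nat.lt_succ_iff_lt_or_eq.1 hp with hlt | rfl
    · exact allBelow_sound h2 p hlt
    · exact h1

/-- index of a generator -/
def genIdx : Gen → Nat
  | .a => 0 | .b => 1 | .c => 2 | .d => 3 | .e => 4 | .f => 5 | .g => 6 | .h => 7 | .i => 8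

/-- generator of an index -/
def genOf (k : Nat) : Gen :=
  cond (Nat.beq k 0) Gen.a (cond (Nat.beq k 1) Gen.b (cond (Nat.beq k 2) Gen.c
    (cond (Nat.beq k 3) Gen.d (cond (Nat.beq k 4) Gen.e (cond (Nat.beq k 5) Gen.f
      (cond (Nat.beq k 6) Gen.g (cond (Nat.beq k 7) Gen.h Gen.i)))))))

theorem genOf_genIdx (x : Gen) : genOf (genIdx x) = x := by cases x <;> rfl

theorem genIdx_inj {x y : Gen} (h : genIdx x = genIdx y) : x = y := by
  have := congrArg genOf h
  rwa [genOf_genIdx, genOf_genIdx] at this

theorem genIdx_le (x : Gen) : genIdx x ≤ 8 := by cases x <;> decide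

/-- a Boolean predicate holds for all generators -/
def allG (f : Gen → Bool) : Bool :=
  andB (f .a) (andB (f .b) (andB (f .c) (andB (f .d) (andB (f .e) (andB (f .f) (andB (f .g)
    (andB (f .h) (f .i))))))))

theorem allG_sound {f : Gen → Bool} (h : allG f = true) (x : Gen) : f x = true := by
  unfold allG at h
  obtain ⟨ha, h⟩ := andB_true h
  obtain ⟨hb, h⟩ := andB_true h
  obtain ⟨hc, h⟩ := andB_true h
  obtain ⟨hd, h⟩ := andB_true h
  obtain ⟨he, h⟩ := andB_true h
  obtain ⟨hf, h⟩ := andB_true h
  obtain ⟨hg, h⟩ := andB_true h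
  obtain ⟨hh, hi⟩ := andB_true h
  cases x <;> assumption

/-- equality test of signed letters -/
def leqG (l m : Gen × Bool) : Bool :=
  andB (Nat.beq (genIdx l.1) (genIdx m.1)) (Bool.rec (Bool.rec true false m.2) m.2 l.2)

theorem leqG_sound (l m : Gen × Bool) (h : leqG l m = true) : l = m := by
  obtain ⟨x, b⟩ := l
  obtain ⟨y, c⟩ := m
  obtain ⟨h1, h2⟩ := andB_true h
  have hxy : x = y := genIdx_inj (Nat.eq_of_beq_eq_true h1)
  subst hxy
  cases b <;> cases c <;> simp_all

/-- pick the `k`-th element of a list -/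
def pick {β : Type} : List β → Nat → β → β
  | [], _, d => d
  | a :: _, 0, _ => a
  | _ :: l, k + 1, d => pick l k d

/-- the data of a packed coset table -/
structure TCData where
  /-- number of points -/
  n : Nat
  /-- positivity -/
  hn : Nat.blt 0 n = true
  /-- packed tables -/
  tb : Gen → Nat
  /-- packed levels -/
  lv : Gen → Nat
  /-- packed parent letters -/
  pl : Nat
  /-- relator words -/
  relL : List (Word Gen)
  /-- subgroup generators -/
  subL : List Gen
  /-- level of the seed entry -/
  L : Nat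
  /-- generator index of the seed entry -/
  sx : Nat
  /-- point of the seed entry -/
  sp : Nat

namespace TCData

variable (D : TCData)

theorem n_pos : 0 < D.n := by
  have := D.hn
  have := Nat.ble_eq.mp this
  omega

/-- a point from a number -/
def mkF (k : Nat) : Fin D.n := ⟨Nat.mod k D.n, Nat.mod_lt k D.n_pos⟩

theorem mkF_val (p : Fin D.n) : D.mkF p.val = p := Fin.ext (Nat.mod_eq_of_lt p.isLt)

/-- the table -/
def fwd (x : Gen) (p : Fin D.n) : Fin D.n := D.mkF (look12 (D.tb x) p.val)
/-- the levels -/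
def lvl (x : Gen) (p : Fin D.n) : Nat := look16 (D.lv x) p.val
/-- parent letters -/
def plet (p : Fin D.n) : Gen × Bool := (genOf (look4 D.pl p.val), true)
/-- the index of a point -/
def idx (p : Fin D.n) : Nat := p.val
/-- the base point -/
def o : Fin D.n := D.mkF 0
/-- equality test of points -/
def beq (p q : Fin D.n) : Bool := Nat.beq p.val q.val

theorem beq_sound (p q : Fin D.n) (h : D.beq p q = true) : p = q :=
  Fin.ext (Nat.eq_of_beq_eq_true h)

/-- a Boolean predicate holds for all points -/
def allF (f : Fin D.n → Bool) : Bool := allBelow (fun k => f (D.mkF k)) D.n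

theorem allF_sound (f : Fin D.n → Bool) (h : D.allF f = true) : ∀ p, f p = true := by
  intro p
  have := allBelow_sound h p.val p.isLt
  rwa [D.mkF_val] at this

theorem hidx0 : D.idx D.o = 0 := Nat.zero_mod _

/-- the relators -/
abbrev rels : Set (FreeGroup Gen) := {r | ∃ w ∈ D.relL, r = FreeGroup.mk w}
/-- the subgroup generators -/
abbrev S : Set (FreeGroup Gen) := {s | ∃ x ∈ D.subL, s = FreeGroup.of x}

theorem relone (w : Word Gen) (hw : w ∈ D.relL) : wG D.rels w = 1 :=
  wG_one_of_mem D.rels w ⟨w, hw, rfl⟩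

/-- the generators are involutions on the table -/
def chkInvol : Bool := allG (fun x => D.allF (fun p => D.beq (D.fwd x (D.fwd x p)) p))

theorem hfi (h : D.chkInvol = true) : ∀ x p, D.fwd x (D.fwd x p) = p := by
  intro x p
  exact D.beq_sound _ _ (D.allF_sound _ (allG_sound h x) p)

/-- the relators act trivially on the table -/
def chkRels : Bool := allL (fun w => D.allF (fun p => D.beq (act D.fwd D.fwd w p) p)) D.relL

theorem hrel (h1 : D.chkInvol = true) (h2 : D.chkRels = true) :
    ∀ r ∈ D.rels, FreeGroup.lift (permOf D.fwd D.fwd (D.hfi h1) (D.hfi h1)) r = 1 := by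
  rintro r ⟨w, hw, rfl⟩
  apply lift_eq_one_of_act
  intro p
  exact D.beq_sound _ _ (D.allF_sound _ (allL_sound _ _ h2 w hw) p)

/-- the subgroup generators fix the base point -/
def chkSub : Bool := allL (fun x => D.beq (D.fwd x D.o) D.o) D.subL

theorem hS (h1 : D.chkInvol = true) (h3 : D.chkSub = true) :
    ∀ s ∈ D.S, FreeGroup.lift (permOf D.fwd D.fwd (D.hfi h1) (D.hfi h1)) s D.o = D.o := by
  rintro s ⟨x, hx, rfl⟩
  have := D.beq_sound _ _ (allL_sound _ _ h3 x hx)
  rw [FreeGroup.lift_apply_of]
  exact this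

/-- the tree check -/
def chkTr : Bool := chkTree D.fwd D.fwd D.allF D.o D.plet D.idx D.beq

theorem htree (h : D.chkTr = true) :
    ∀ p, p ≠ D.o → D.idx (parent D.fwd D.fwd D.plet p) < D.idx p :=
  chkTree_sound D.fwd D.fwd D.allF D.o D.plet D.idx D.beq D.allF_sound D.beq_sound h

/-- the seed entry -/
def isSeed (x : Gen) (p : Fin D.n) : Bool := andB (Nat.beq (genIdx x) D.sx) (Nat.beq p.val D.sp)

theorem isSeed_eq {x : Gen} {p : Fin D.n} (h : D.isSeed x p = true) :
    x = genOf D.sx ∧ p = D.mkF D.sp := by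
  obtain ⟨h1, h2⟩ := andB_true h
  have h1' := Nat.eq_of_beq_eq_true h1
  have h2' := Nat.eq_of_beq_eq_true h2
  refine ⟨?_, ?_⟩
  · rw [← h1', genOf_genIdx]
  · rw [← h2', D.mkF_val]

theorem no_seed (h : Nat.blt 8 D.sx = true) (x : Gen) (p : Fin D.n) : D.isSeed x p = true → False := by
  intro hs
  obtain ⟨h1, _⟩ := andB_true hs
  have h1' := Nat.eq_of_beq_eq_true h1
  have := genIdx_le x
  have := Nat.ble_eq.mp h
  omega

/-- validity of entries of the table -/
abbrev EOK (x : Gen) (p : Fin D.n) : Prop :=
  EntryOK D.rels D.S D.fwd D.fwd D.o D.plet D.idx x p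

/-- the check of all entries of a generator -/
def chkEnt (cert : (x : Gen) → Fin D.n → Cert D.rels D.S x) (x : Gen) : Bool :=
  D.allF (fun p => orB (D.isSeed x p)
    (chkEntry D.rels D.S D.fwd D.fwd D.o D.lvl D.plet D.idx D.beq leqG x (cert x p) p))

theorem index_eq_n (h1 : D.chkInvol = true) (h2 : D.chkRels = true) (h3 : D.chkSub = true)
    (h4 : D.chkTr = true) (cert : (x : Gen) → Fin D.n → Cert D.rels D.S x)
    (h5 : ∀ x, D.chkEnt cert x = true)
    (hseed : ∀ x p, D.isSeed x p = true →
      (∀ y q, D.lvl y q < D.lvl x p → D.EOK y q) → D.EOK x p) :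
    (subH D.rels D.S).index = D.n := by
  have hok := entries_ok_seeded D.rels D.S D.fwd D.fwd D.o (D.hfi h1) (D.hfi h1) D.lvl D.plet D.idx
    D.beq leqG D.beq_sound leqG_sound (D.htree h4) D.hidx0 cert D.isSeed
    (fun x p => D.allF_sound _ (h5 x) p) hseed
  have := index_of_ok D.rels D.S D.fwd D.fwd D.o (D.hfi h1) (D.hfi h1) D.plet D.idx
    (D.htree h4) (D.hrel h1 h2) (D.hS h1 h3) hok
  rw [this, Fintype.card_fin]

/-- the coset of a point given by its number -/
noncomputable abbrev P (k : Nat) : PresentedGroup D.rels ⧸ subH D.rels D.S :=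
  psiW D.rels D.S D.fwd D.fwd D.o D.plet D.idx (D.mkF k)

/-- the induction hypothesis available for the seed entry -/
abbrev IHyp : Prop := ∀ y q, D.lvl y q < D.L → D.EOK y q

/-- a known entry as an edge -/
theorem real_edge' (IH : D.IHyp) (y : Gen) (a b : Nat)
    (h : andB (Nat.beq (D.fwd y (D.mkF a)).val (Nat.mod b D.n))
      (Nat.blt (D.lvl y (D.mkF a)) D.L) = true) :
    lG D.rels (y, true) • D.P a = D.P b := by
  obtain ⟨ha, hb⟩ := andB_true h
  have hq : D.fwd y (D.mkF a) = D.mkF b := Fin.ext (Nat.eq_of_beq_eq_true ha)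
  exact real_edge D.rels D.S D.fwd D.fwd D.o D.lvl D.plet D.idx D.L IH y _ _ hq hb

/-- the seed entry from an edge -/
theorem seed_of_edge (x : Gen) (a b : Nat)
    (hq : Nat.beq (D.fwd x (D.mkF a)).val (Nat.mod b D.n) = true)
    (h : lG D.rels (x, true) • D.P a = D.P b) : D.EOK x (D.mkF a) := by
  apply entryOK_of_edge
  have hq' : D.fwd x (D.mkF a) = D.mkF b := Fin.ext (Nat.eq_of_beq_eq_true hq)
  rw [hq']
  exact h

/-- certificate of a subgroup generator at the base point -/
theorem sub_mem (x : Gen) (hx : x ∈ D.subL) :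
    (wG D.rels [])⁻¹ * (lG D.rels (x, true) * wG D.rels []) ∈ subH D.rels D.S := by
  rw [wG_nil, inv_one, one_mul, mul_one]
  exact ⟨FreeGroup.of x, Subgroup.subset_closure ⟨x, hx, rfl⟩, rfl⟩

end TCData

section Words

variable {α : Type} (rels : Set (FreeGroup α)) (S : Set (FreeGroup α))

/-- flipping an edge of an involution -/
theorem flipE {y : α} {ca cb : PresentedGroup rels ⧸ subH rels S}
    (hy : wG rels [(y, true), (y, true)] = 1) (h : lG rels (y, true) • ca = cb) :
    lG rels (y, true) • cb = ca := by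
  rw [← h, ← mul_smul]
  have : lG rels (y, true) * lG rels (y, true) = 1 := by
    rw [← hy, wG_cons]
    rfl
  rw [this, one_smul]

/-- a killed generator squares to one -/
theorem sq_of_kill {x : α} (h : wG rels [(x, true)] = 1) : wG rels [(x, true), (x, true)] = 1 := by
  rw [wG_cons]
  show wG rels [(x, true)] * wG rels [(x, true)] = 1
  rw [h, one_mul]

/-- reversing a positive word of involutions inverts it -/
theorem wG_reverse_inv (hinv : ∀ x : α, wG rels [(x, true), (x, true)] = 1) (w : List α) :
    wG rels ((w.map (fun x => (x, true))).reverse) = (wG rels (w.map (fun x => (x, true))))⁻¹ := by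
  induction w with
  | nil => simp [wG_nil]
  | cons x w ih =>
    rw [List.map_cons, List.reverse_cons, wG_append, ih,
      wG_cons rels (x, true) (List.map (fun x => (x, true)) w), mul_inv_rev]
    congr 1
    have h2 : lG rels (x, true) * lG rels (x, true) = 1 := by
      rw [← hinv x, wG_cons]
      rfl
    have : wG rels [(x, true)] = lG rels (x, true) := rfl
    rw [this]
    exact (inv_eq_of_mul_eq_one_left h2).symm

theorem wG_reverse_one (hinv : ∀ x : α, wG rels [(x, true), (x, true)] = 1) (w : List α)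
    (h : wG rels (w.map (fun x => (x, true))) = 1) :
    wG rels ((w.map (fun x => (x, true))).reverse) = 1 := by
  rw [wG_reverse_inv rels hinv, h, inv_one]

end Words

end

end Cfsg.Agent.Helper27.Fi22TC
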