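import Cfsg.Agent.Lib.Helper27.Fi22.TCGen
import Cfsg.Agent.Lib.Helper27.Fi22.BTree

/-!
# Coset tables stored in binary trees

The same as `TCData`, for large tables: the tables and the levels are binary trees of 512-bit
chunks, which keeps the intermediate numbers of kernel evaluation small.
-/

set_option autoImplicit false

namespace Cfsg.Agent.Helper27.Fi22TC

open Cfsg.Agent.Helper28 Cfsg.Agent.Helper27
open Cfsg.Spor.Fi22 (Gen)

noncomputable section

/-- the data of a coset table stored in trees -/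
structure TCDataT where
  /-- number of points -/
  n : Nat
  /-- positivity -/
  hn : Nat.blt 0 n = true
  /-- tables as trees -/
  tb : Gen → BT
  /-- levels as trees -/
  lv : Gen → BT
  /-- packed parent letters -/
  pl : Nat
  /-- relator words -/
  relL : List (Word Gen)
  /-- subgroup generators -/
  subL : List Gen
  /-- level of the seed entry -/
  L : Nat
  /-- generator index of the seed entry -/
  sx : Nat
  /-- point of the seed entry -/
  sp : Nat

namespace TCDataT

variable (D : TCDataT)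

theorem n_pos : 0 < D.n := by
  have := D.hn
  have := Nat.ble_eq.mp this
  omega

/-- a point from a number -/
def mkF (k : Nat) : Fin D.n := ⟨Nat.mod k D.n, Nat.mod_lt k D.n_pos⟩

theorem mkF_val (p : Fin D.n) : D.mkF p.val = p := Fin.ext (Nat.mod_eq_of_lt p.isLt)

/-- the table -/
def fwd (x : Gen) (p : Fin D.n) : Fin D.n := D.mkF ((D.tb x).get16 p.val)
/-- the levels -/
def lvl (x : Gen) (p : Fin D.n) : Nat := (D.lv x).get16 p.val
/-- parent letters -/
def plet (p : Fin D.n) : Gen × Bool := (genOf (look4 D.pl p.val), true)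
/-- the index of a point -/
def idx (p : Fin D.n) : Nat := p.val
/-- the base point -/
def o : Fin D.n := D.mkF 0
/-- equality test of points -/
def beq (p q : Fin D.n) : Bool := Nat.beq p.val q.val

theorem beq_sound (p q : Fin D.n) (h : D.beq p q = true) : p = q :=
  Fin.ext (Nat.eq_of_beq_eq_true h)

/-- a Boolean predicate holds for all points -/
def allF (f : Fin D.n → Bool) : Bool := allBelow (fun k => f (D.mkF k)) D.n

theorem allF_sound (f : Fin D.n → Bool) (h : D.allF f = true) : ∀ p, f p = true := by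
  intro p
  have := allBelow_sound h p.val p.isLt
  rwa [D.mkF_val] at this

theorem hidx0 : D.idx D.o = 0 := Nat.zero_mod _

/-- the relators -/
abbrev rels : Set (FreeGroup Gen) := {r | ∃ w ∈ D.relL, r = FreeGroup.mk w}
/-- the subgroup generators -/
abbrev S : Set (FreeGroup Gen) := {s | ∃ x ∈ D.subL, s = FreeGroup.of x}

theorem relone (w : Word Gen) (hw : w ∈ D.relL) : wG D.rels w = 1 :=
  wG_one_of_mem D.rels w ⟨w, hw, rfl⟩

/-- the generators are involutions on the table -/
def chkInvol : Bool := allG (fun x => D.allF (fun p => D.beq (D.fwd x (D.fwd x p)) p))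

theorem hfi (h : D.chkInvol = true) : ∀ x p, D.fwd x (D.fwd x p) = p := by
  intro x p
  exact D.beq_sound _ _ (D.allF_sound _ (allG_sound h x) p)

/-- the relators act trivially on the table -/
def chkRels : Bool := allL (fun w => D.allF (fun p => D.beq (act D.fwd D.fwd w p) p)) D.relL

theorem hrel (h1 : D.chkInvol = true) (h2 : D.chkRels = true) :
    ∀ r ∈ D.rels, FreeGroup.lift (permOf D.fwd D.fwd (D.hfi h1) (D.hfi h1)) r = 1 := by
  rintro r ⟨w, hw, rfl⟩
  apply lift_eq_one_of_act
  intro p
  exact D.beq_sound _ _ (D.allF_sound _ (allL_sound _ _ h2 w hw) p)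

/-- the subgroup generators fix the base point -/
def chkSub : Bool := allL (fun x => D.beq (D.fwd x D.o) D.o) D.subL

theorem hS (h1 : D.chkInvol = true) (h3 : D.chkSub = true) :
    ∀ s ∈ D.S, FreeGroup.lift (permOf D.fwd D.fwd (D.hfi h1) (D.hfi h1)) s D.o = D.o := by
  rintro s ⟨x, hx, rfl⟩
  have := D.beq_sound _ _ (allL_sound _ _ h3 x hx)
  rw [FreeGroup.lift_apply_of]
  exact this

/-- the tree check -/
def chkTr : Bool := chkTree D.fwd D.fwd D.allF D.o D.plet D.idx D.beq

theorem htree (h : D.chkTr = true) :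
    ∀ p, p ≠ D.o → D.idx (parent D.fwd D.fwd D.plet p) < D.idx p :=
  chkTree_sound D.fwd D.fwd D.allF D.o D.plet D.idx D.beq D.allF_sound D.beq_sound h

/-- the seed entry -/
def isSeed (x : Gen) (p : Fin D.n) : Bool := andB (Nat.beq (genIdx x) D.sx) (Nat.beq p.val D.sp)

theorem isSeed_eq {x : Gen} {p : Fin D.n} (h : D.isSeed x p = true) :
    x = genOf D.sx ∧ p = D.mkF D.sp := by
  obtain ⟨h1, h2⟩ := andB_true h
  have h1' := Nat.eq_of_beq_eq_true h1
  have h2' := Nat.eq_of_beq_eq_true h2
  refine ⟨?_, ?_⟩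
  · rw [← h1', genOf_genIdx]
  · rw [← h2', D.mkF_val]

theorem no_seed (h : Nat.blt 8 D.sx = true) (x : Gen) (p : Fin D.n) : D.isSeed x p = true → False := by
  intro hs
  obtain ⟨h1, _⟩ := andB_true hs
  have h1' := Nat.eq_of_beq_eq_true h1
  have := genIdx_le x
  have := Nat.ble_eq.mp h
  omega

/-- validity of entries of the table -/
abbrev EOK (x : Gen) (p : Fin D.n) : Prop :=
  EntryOK D.rels D.S D.fwd D.fwd D.o D.plet D.idx x p

/-- the check of all entries of a generator -/
def chkEnt (cert : (x : Gen) → Fin D.n → Cert D.rels D.S x) (x : Gen) : Bool :=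
  D.allF (fun p => orB (D.isSeed x p)
    (chkEntry D.rels D.S D.fwd D.fwd D.o D.lvl D.plet D.idx D.beq leqG x (cert x p) p))

theorem index_eq_n (h1 : D.chkInvol = true) (h2 : D.chkRels = true) (h3 : D.chkSub = true)
    (h4 : D.chkTr = true) (cert : (x : Gen) → Fin D.n → Cert D.rels D.S x)
    (h5 : ∀ x, D.chkEnt cert x = true)
    (hseed : ∀ x p, D.isSeed x p = true →
      (∀ y q, D.lvl y q < D.lvl x p → D.EOK y q) → D.EOK x p) :
    (subH D.rels D.S).index = D.n := by
  have hok := entries_ok_seeded D.rels D.S D.fwd D.fwd D.o (D.hfi h1) (D.hfi h1) D.lvl D.plet D.idx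
    D.beq leqG D.beq_sound leqG_sound (D.htree h4) D.hidx0 cert D.isSeed
    (fun x p => D.allF_sound _ (h5 x) p) hseed
  have := index_of_ok D.rels D.S D.fwd D.fwd D.o (D.hfi h1) (D.hfi h1) D.plet D.idx
    (D.htree h4) (D.hrel h1 h2) (D.hS h1 h3) hok
  rw [this, Fintype.card_fin]

/-- the coset of a point given by its number -/
noncomputable abbrev P (k : Nat) : PresentedGroup D.rels ⧸ subH D.rels D.S :=
  psiW D.rels D.S D.fwd D.fwd D.o D.plet D.idx (D.mkF k)

/-- the induction hypothesis available for the seed entry -/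
abbrev IHyp : Prop := ∀ y q, D.lvl y q < D.L → D.EOK y q

/-- a known entry as an edge -/
theorem real_edge' (IH : D.IHyp) (y : Gen) (a b : Nat)
    (h : andB (Nat.beq (D.fwd y (D.mkF a)).val (Nat.mod b D.n))
      (Nat.blt (D.lvl y (D.mkF a)) D.L) = true) :
    lG D.rels (y, true) • D.P a = D.P b := by
  obtain ⟨ha, hb⟩ := andB_true h
  have hq : D.fwd y (D.mkF a) = D.mkF b := Fin.ext (Nat.eq_of_beq_eq_true ha)
  exact real_edge D.rels D.S D.fwd D.fwd D.o D.lvl D.plet D.idx D.L IH y _ _ hq hb

/-- the seed entry from an edge -/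
theorem seed_of_edge (x : Gen) (a b : Nat)
    (hq : Nat.beq (D.fwd x (D.mkF a)).val (Nat.mod b D.n) = true)
    (h : lG D.rels (x, true) • D.P a = D.P b) : D.EOK x (D.mkF a) := by
  apply entryOK_of_edge
  have hq' : D.fwd x (D.mkF a) = D.mkF b := Fin.ext (Nat.eq_of_beq_eq_true hq)
  rw [hq']
  exact h

/-- certificate of a subgroup generator at the base point -/
theorem sub_mem (x : Gen) (hx : x ∈ D.subL) :
    (wG D.rels [])⁻¹ * (lG D.rels (x, true) * wG D.rels []) ∈ subH D.rels D.S := by
  rw [wG_nil, inv_one, one_mul, mul_one]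
  exact ⟨FreeGroup.of x, Subgroup.subset_closure ⟨x, hx, rfl⟩, rfl⟩

/-- a Boolean predicate holds for the points `lo, …, lo + len - 1` -/
def allFR (f : Fin D.n → Bool) (lo len : Nat) : Bool :=
  allBelow (fun k => f (D.mkF (Nat.add lo k))) len

theorem allFR_cover (f : Fin D.n → Bool) (C m : Nat) (hm : D.n ≤ m * C)
    (h : ∀ i, i < m → D.allFR f (i * C) C = true) : ∀ p, f p = true := by
  intro p
  have hC : 0 < C := by
    rcases Nat.eq_zero_or_pos C with h0 | h0
    · rw [h0, Nat.mul_zero] at hm
      have := D.n_pos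
      omega
    · exact h0
  have hi : p.val / C < m := by
    rw [Nat.div_lt_iff_lt_mul hC]
    exact lt_of_lt_of_le p.isLt hm
  have := allBelow_sound (h (p.val / C) hi) (p.val % C) (Nat.mod_lt _ hC)
  have e : Nat.add (p.val / C * C) (p.val % C) = p.val := by
    show p.val / C * C + p.val % C = p.val
    rw [Nat.mul_comm]
    exact Nat.div_add_mod p.val C
  rw [e, D.mkF_val] at this
  exact this

/-- a relator acts trivially on the points of a range -/
def chkRelR (w : Word Gen) (lo len : Nat) : Bool :=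
  D.allFR (fun p => D.beq (act D.fwd D.fwd w p) p) lo len

/-- the check of the entries of a generator on a range of points -/
def chkEntR (cert : (x : Gen) → Fin D.n → Cert D.rels D.S x) (x : Gen) (lo len : Nat) : Bool :=
  D.allFR (fun p => orB (D.isSeed x p)
    (chkEntry D.rels D.S D.fwd D.fwd D.o D.lvl D.plet D.idx D.beq leqG x (cert x p) p)) lo len

theorem hrel' (h1 : D.chkInvol = true)
    (h2 : ∀ w ∈ D.relL, ∀ p, D.beq (act D.fwd D.fwd w p) p = true) :
    ∀ r ∈ D.rels, FreeGroup.lift (permOf D.fwd D.fwd (D.hfi h1) (D.hfi h1)) r = 1 := by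
  rintro r ⟨w, hw, rfl⟩
  apply lift_eq_one_of_act
  intro p
  exact D.beq_sound _ _ (h2 w hw p)

theorem index_eq_n' (h1 : D.chkInvol = true)
    (h2 : ∀ w ∈ D.relL, ∀ p, D.beq (act D.fwd D.fwd w p) p = true) (h3 : D.chkSub = true)
    (h4 : D.chkTr = true) (cert : (x : Gen) → Fin D.n → Cert D.rels D.S x)
    (h5 : ∀ x p, orB (D.isSeed x p)
      (chkEntry D.rels D.S D.fwd D.fwd D.o D.lvl D.plet D.idx D.beq leqG x (cert x p) p) = true)
    (hseed : ∀ x p, D.isSeed x p = true →
      (∀ y q, D.lvl y q < D.lvl x p → D.EOK y q) → D.EOK x p) :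
    (subH D.rels D.S).index = D.n := by
  have hok := entries_ok_seeded D.rels D.S D.fwd D.fwd D.o (D.hfi h1) (D.hfi h1) D.lvl D.plet D.idx
    D.beq leqG D.beq_sound leqG_sound (D.htree h4) D.hidx0 cert D.isSeed h5 hseed
  have := index_of_ok D.rels D.S D.fwd D.fwd D.o (D.hfi h1) (D.hfi h1) D.plet D.idx
    (D.htree h4) (D.hrel' h1 h2) (D.hS h1 h3) hok
  rw [this, Fintype.card_fin]

end TCDataT

end

end Cfsg.Agent.Helper27.Fi22TC
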