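import Cfsg.Agent.Lib.Helper27.Fi22.Simple
import Cfsg.Agent.Lib.Helper27.Fi23.TransGen
import Cfsg.Prelude.Def_Sporadic
import Cfsg.Prelude.Def_Classical

/-!
# The class of 3-transpositions of the presented `Fi22`

The class of the generator `a` is a class of `3510` 3-transpositions generating the presented
`Fi22`; its centralizer is the subgroup `H87` of statements S1687 and S1684.  The statement S1684
(`H87` is a non-split double cover of `PSU(6,2)`) is taken as a hypothesis.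
-/

set_option autoImplicit false
set_option maxRecDepth 100000

namespace Cfsg.Agent.Helper27.Fi22Trans

open Cfsg.Agent.Helper27.Fi22 (H87 S87 rels phi σ F)
open Cfsg.Agent.Helper27.Fi23Trans

noncomputable section

/-- the statement S1684 -/
abbrev Stmt84 : Prop :=
  ∃ (K : Type) (_ : Field K) (_ : Fintype K), Fintype.card K = 4 ∧ Cfsg.IsNonsplitDoubleCover (((Subgroup.closure ({Cfsg.Spor.Fi22.a, Cfsg.Spor.Fi22.c, Cfsg.Spor.Fi22.d, Cfsg.Spor.Fi22.e, Cfsg.Spor.Fi22.f, Cfsg.Spor.Fi22.g, Cfsg.Spor.Fi22.h, Cfsg.Spor.Fi22.i, (Cfsg.Spor.Fi22.a * Cfsg.Spor.Fi22.b * Cfsg.Spor.Fi22.c * Cfsg.Spor.Fi22.d * Cfsg.Spor.Fi22.e * Cfsg.Spor.Fi22.h) ^ 5} : Set (FreeGroup Cfsg.Spor.Fi22.Gen))).map (PresentedGroup.mk (Cfsg.Spor.coxRelators Cfsg.Spor.Fi22.edges ∪ {r | r ∈ Cfsg.Spor.Fi22.extra})))) (Cfsg.PSU 6 K 2)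

/-- the generator `x` of `Fi22` -/
abbrev gn (x : Cfsg.Spor.Fi22.Gen) : Cfsg.Spor.Fi22 := PresentedGroup.of x

theorem conj_adj (x y : Cfsg.Spor.Fi22.Gen)
    (h : Cfsg.Spor.coxLabel Cfsg.Spor.Fi22.edges x y = 3) : IsConj (gn x) (gn y) := by
  rw [isConj_iff]
  exact ⟨gn x * gn y, (Cfsg.Agent.Helper92.Fi22Perf.conj_of_adj x y h).symm⟩

theorem conj_a_c : ∃ c : Cfsg.Spor.Fi22, c * gn .a * c⁻¹ = gn .c := by
  have h : IsConj (gn .a) (gn .c) := (conj_adj .a .b (by decide)).trans (conj_adj .b .c (by decide))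
  exact isConj_iff.1 h

theorem chk_b0 : Nat.beq (F .b 0) (F .a 0) = false := by decide +kernel

theorem chk_c1 : Nat.beq (F .c 1) (F .a 1) = false := by decide +kernel

theorem chk_a1 : Nat.beq (F .a 1) 1 = false := by decide +kernel

theorem gn_ne (x : Cfsg.Spor.Fi22.Gen) (p : Nat) (hp : p < 3510)
    (hx : Nat.beq (F x p) (F .a p) = false) : gn x ≠ gn .a := by
  intro h
  have h1 := congrArg phi h
  have ha : phi (gn x) = σ x := Cfsg.Agent.Helper27.Fi22.phi_of _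
  have hb : phi (gn .a) = σ .a := Cfsg.Agent.Helper27.Fi22.phi_of _
  rw [ha, hb] at h1
  have h2 := congrArg (fun τ : Equiv.Perm (Fin 3510) => (τ ⟨p, hp⟩).val) h1
  simp only [Cfsg.Agent.Helper27.Fi22.σ_val] at h2
  rw [h2] at hx
  simp at hx

theorem gn_a_ne_one : gn .a ≠ 1 := by
  intro h
  have h1 := congrArg phi h
  have ha : phi (gn .a) = σ .a := Cfsg.Agent.Helper27.Fi22.phi_of _
  rw [ha, map_one] at h1
  have h2 := congrArg (fun τ : Equiv.Perm (Fin 3510) => (τ ⟨1, by norm_num⟩).val) h1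
  simp only [Cfsg.Agent.Helper27.Fi22.σ_val, Equiv.Perm.one_apply] at h2
  have h3 := chk_a1
  rw [h2] at h3
  simp at h3

/-- the class of the generator `a` -/
theorem class_a :
    Subgroup.centralizer ({gn .a} : Set Cfsg.Spor.Fi22) = H87 ∧
      Cfsg.IsThreeTranspositionClass (conjugatesOf (gn .a)) ∧
      Nat.card (conjugatesOf (gn .a)) = 3510 := by
  have hfin := Cfsg.Agent.Helper27.Fi22.finite_Fi22
  have haa : gn .a * gn .a = 1 := Cfsg.Agent.Helper92.Fi22Perf.of_mul_self .a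
  have hbb : gn .b * gn .b = 1 := Cfsg.Agent.Helper92.Fi22Perf.of_mul_self .b
  obtain ⟨c1, hc1⟩ := conj_a_c
  have hc2 : (gn .a * gn .b) * gn .a * (gn .a * gn .b)⁻¹ = gn .b :=
    (Cfsg.Agent.Helper92.Fi22Perf.conj_of_adj .a .b (by decide)).symm
  have hac : (gn .a * gn .c) ^ 2 = 1 := Cfsg.Agent.Helper92.Fi22Perf.of_pow_label .a .c
  have hab : (gn .a * gn .b) ^ 3 = 1 := Cfsg.Agent.Helper92.Fi22Perf.of_pow_label .a .b
  obtain ⟨hidx, q₁, q₂, h1, h2⟩ := Cfsg.Agent.S1687.result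
  refine three_transposition_of_rank3 H87 3510 693 2816 hidx (by norm_num) (by norm_num)
    (by norm_num) (by norm_num) (by norm_num) (by norm_num) (by norm_num) q₁ q₂ h1 h2 (gn .a) haa
    gn_a_ne_one Cfsg.Agent.Helper27.Fi22.H87_comm Cfsg.Agent.Helper92.Fi22Perf.normalClosure_a
    c1 (gn .a * gn .b) ?_ ?_ ?_ ?_
  · rw [hc1, hac]
  · rw [hc1]
    exact gn_ne .c 1 (by norm_num) chk_c1
  · rw [hc2, hab]
  · rw [hc2]
    intro hcomm
    have h2' : (gn .a * gn .b) ^ 2 = 1 := by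
      rw [pow_two]
      calc gn .a * gn .b * (gn .a * gn .b) = gn .a * (gn .b * gn .a) * gn .b := by group
        _ = gn .a * (gn .a * gn .b) * gn .b := by rw [hcomm]
        _ = (gn .a * gn .a) * (gn .b * gn .b) := by group
        _ = 1 := by rw [haa, hbb, one_mul]
    have h1' : gn .a * gn .b = 1 := by
      have : (gn .a * gn .b) ^ 3 = (gn .a * gn .b) ^ 2 * (gn .a * gn .b) := pow_succ _ 2
      rw [hab, h2', one_mul] at this
      exact this.symm
    apply gn_ne .b 0 (by norm_num) chk_b0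
    have : gn .b = (gn .a)⁻¹ := eq_inv_of_mul_eq_one_right h1'
    rw [this]
    exact inv_eq_of_mul_eq_one_left haa

/-- statement S0471, given statement S1684 -/
theorem realization (h84 : Stmt84) :
    ∃ (G : Type) (_ : Group G) (_ : Finite G), Cfsg.IsFi22 G ∧ ∃ D : Set G,
      Cfsg.IsThreeTranspositionClass D ∧ Nat.card D = 3510 ∧ ∀ d ∈ D,
        ∃ (F : Type) (_ : Field F) (_ : Fintype F), Fintype.card F = 4 ∧
          Cfsg.IsNonsplitDoubleCover (Subgroup.centralizer ({d} : Set G)) (Cfsg.PSU 6 F 2) := by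
  have hfin := Cfsg.Agent.Helper27.Fi22.finite_Fi22
  obtain ⟨hA, hT, hB⟩ := class_a
  refine ⟨Cfsg.Spor.Fi22, inferInstance, hfin,
    ⟨Cfsg.Agent.Helper27.Fi22.simple_Fi22, Cfsg.Agent.Helper27.Fi22.card_eq⟩,
    conjugatesOf (gn .a), hT, hB, ?_⟩
  intro d hd
  obtain ⟨K, hK1, hK2, hK4, hcov⟩ := h84
  refine ⟨K, hK1, hK2, hK4, ?_⟩
  change IsConj (gn .a) d at hd
  rw [isConj_iff] at hd
  obtain ⟨c, rfl⟩ := hd
  have h0 : Cfsg.IsNonsplitDoubleCover ↥(Subgroup.centralizer ({gn .a} : Set Cfsg.Spor.Fi22))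
      (Cfsg.PSU 6 K 2) := by
    rw [hA]
    exact hcov
  exact isNonsplitDoubleCover_of_mulEquiv (centralizerConjEquiv c (gn .a)) h0

end

end Cfsg.Agent.Helper27.Fi22Trans
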